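import Groth.Agent.EtRam93.GalStep.Out
import Mathlib

/-!
# Absorbing the part of an Artin-Schreier right hand side coming from the base
-/

set_option autoImplicit false
set_option linter.style.haveILetI false
set_option linter.unusedSectionVars false

universe u

open IsLocalRing TensorProduct

namespace Groth.Agent.EtRam93

/-- Absorption for poles of order at most `n`. -/
def AbsorbProp (p : ℕ) (n : ℕ) : Prop :=
  ∀ (A B K L : Type u) [CommRing A] [IsDomain A] [IsDiscreteValuationRing A]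
    [CommRing B] [IsDomain B] [IsDiscreteValuationRing B] [Algebra A B] [IsLocalHom (algebraMap A B)]
    [Field K] [Algebra A K] [IsFractionRing A K] [Field L] [Algebra B L] [IsFractionRing B L]
    [Algebra K L] [Algebra A L] [IsScalarTower A K L] [IsScalarTower A B L] [CharP L p] (π : A),
    AbsorbBase A B p π → ∀ (ξ : L) (a : B), ξ * algebraMap B L (algebraMap A B π) ^ n = algebraMap B L a →
      Absorbs A B K L p π ξ

theorem dvd_iff_val {B F : Type u} [CommRing B] [IsDomain B] [IsDiscreteValuationRing B] [Field F] [Algebra B F] {πB : B}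
    (hπB : maximalIdeal B = Ideal.span {πB}) {V : ValuationSubring F}
    (hd : EtRam.Dominates B (algebraMap B F) V) (x : B) : πB ∣ x ↔ V.valuation (algebraMap B F x) < 1 := by
  rw [← Ideal.mem_span_singleton, ← hπB]
  refine ⟨hd.2 x, fun h => (mem_maximalIdeal _).2 fun hu => ?_⟩
  obtain ⟨u, rfl⟩ := hu
  exact (valuation_unit hd u).ge.not_gt h

theorem pow_sub_pow_lt {F : Type u} [Field F] {V : ValuationSubring F} {x y : F} (hx : x ∈ V) (hy : y ∈ V)
    (h : V.valuation (x - y) < 1) (m : ℕ) : V.valuation (x ^ m - y ^ m) < 1 := by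
  rw [show x ^ m - y ^ m = (∑ i ∈ Finset.range m, x ^ i * y ^ (m - 1 - i)) * (x - y) from (geom_sum₂_mul x y m).symm,
    map_mul]
  exact (mul_le_of_le_one_left' ((V.valuation_le_one_iff _).2
    (sum_mem fun i _ => mul_mem (pow_mem hx i) (pow_mem hy _)))).trans_lt h

/-- One more root: absorption at exact order `n`, when the leading residue has no `p ^ d`th root. -/
theorem absorb_top {p : ℕ} [Fact p.Prime] {n : ℕ} (hn : ¬ p ∣ n) :
    ∀ (d : ℕ) (A B K L : Type u) [CommRing A] [IsDomain A] [IsDiscreteValuationRing A]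
      [CommRing B] [IsDomain B] [IsDiscreteValuationRing B] [Algebra A B] [IsLocalHom (algebraMap A B)]
      [Field K] [Algebra A K] [IsFractionRing A K] [Field L] [Algebra B L] [IsFractionRing B L]
      [Algebra K L] [Algebra A L] [IsScalarTower A K L] [IsScalarTower A B L] [CharP L p] (π : A),
      AbsorbBase A B p π → ∀ (ξ : L) (a : B), ξ * algebraMap B L (algebraMap A B π) ^ n = algebraMap B L a →
        (∀ y : B, ¬ algebraMap A B π ∣ a - y ^ p ^ d) → Absorbs A B K L p π ξ := by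
  intro d
  induction d with
  | zero =>
    intro A B K L _ _ _ _ _ _ _ _ _ _ _ _ _ _ _ _ _ _ _ π _ ξ a _ hd
    exact absurd (by rw [pow_zero, pow_one, sub_self]; exact dvd_zero _) (hd a)
  | succ d ih =>
    intro A B K L _ _ _ _ _ _ _ _ _ _ _ _ _ _ _ _ _ _ _ π hb ξ a hξ hd
    have hp := (Fact.out : p.Prime)
    obtain ⟨K₁, _, _, _, _, hK₁, hK₁sep, -, π₁, b₀, -, -, hb₀, -, hrel, -⟩ :=
      exists_totallyRamified_pow A K π hb.hπ (n + 2) (by omega) p hp.pos
    haveI : FiniteDimensional K K₁ := Module.finite_of_finrank_pos (hK₁ ▸ hp.pos)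
    haveI := hK₁sep
    haveI : CharP K p := (RingHom.charP_iff (algebraMap K L) (algebraMap K L).injective p).2 inferInstance
    haveI : CharP K₁ p := charP_of_injective_algebraMap (algebraMap K K₁).injective p
    have hAK : ∀ a, algebraMap A K₁ a = algebraMap K K₁ (algebraMap A K a) := IsScalarTower.algebraMap_apply A K K₁
    have hπ0 : π ≠ 0 := ((IsDiscreteValuationRing.irreducible_iff_uniformizer π).2 hb.hπ).ne_zero
    have hlev : IsLevel A K π π₁ p := fun W hW => by
      obtain ⟨w, hw⟩ := rootData_of_rel (R := A) (RingHom.id A) (RingHom.id K₁) (fun _ => rfl) W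
        (fun r => by rw [hAK]; exact hW.1 r) (by rw [hAK]; exact hW.2 π (hb.hπ ▸ Ideal.mem_span_singleton_self π))
        (fun h => hπ0 ((algebraMap_injective_of_tower A K K₁) (h.trans (map_zero _).symm))) hb₀ hrel
      rw [← hAK]; exact hw.val_t
    letI : Field (L ⊗[K] K₁) := levelField (L := L) hb.hπB hp.pos hlev hK₁
    haveI : IsScalarTower B L (L ⊗[K] K₁) := inferInstance
    let f₁ : K₁ →+* L ⊗[K] K₁ := (Algebra.TensorProduct.includeRight : K₁ →ₐ[K] L ⊗[K] K₁).toRingHom
    have hf₁ : f₁.comp (algebraMap K K₁) = (algebraMap L (L ⊗[K] K₁)).comp (algebraMap K L) :=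
      (compat_includeRight (RingHom.id (L ⊗[K] K₁))).trans rfl
    have hdimT : Module.finrank L (L ⊗[K] K₁) = p := (Module.finrank_baseChange (R := L) (S := K) (M' := K₁)).trans hK₁
    obtain ⟨V, hV, _, huniq, htlt, hmV, hres⟩ := level_places f₁ hf₁ hb.hπB hp.pos hlev hdimT.le
    haveI : CharP (L ⊗[K] K₁) p := charP_of_injective_algebraMap (algebraMap L (L ⊗[K] K₁)).injective p
    have hA₁ : ∀ x : A, f₁ (algebraMap A K₁ x) = algebraMap B (L ⊗[K] K₁) (algebraMap A B x) := fun x => by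
      rw [hAK, ← RingHom.comp_apply, hf₁, RingHom.comp_apply, ← IsScalarTower.algebraMap_apply A K L,
        IsScalarTower.algebraMap_apply A B L, ← IsScalarTower.algebraMap_apply B L (L ⊗[K] K₁)]
    have hπBne : algebraMap B (L ⊗[K] K₁) (algebraMap A B π) ≠ 0 := by
      rw [← hA₁]
      exact (map_ne_zero f₁).2 fun h => hπ0 ((algebraMap_injective_of_tower A K K₁) (h.trans (map_zero _).symm))
    obtain ⟨w, hw⟩ := rootData_of_rel (algebraMap A B) f₁ hA₁ V hV.1
      ((dvd_iff_val hb.hπB hV _).1 dvd_rfl) hπBne hb₀ hrel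
    have hξ' : algebraMap L (L ⊗[K] K₁) ξ =
        algebraMap B (L ⊗[K] K₁) a / algebraMap B (L ⊗[K] K₁) (algebraMap A B π) ^ n := by
      rw [eq_div_iff (pow_ne_zero _ hπBne), IsScalarTower.algebraMap_apply B L (L ⊗[K] K₁),
        IsScalarTower.algebraMap_apply B L (L ⊗[K] K₁), ← map_pow, ← map_mul, hξ]
    -- from a field over `L ⊗ K₁` to the places over `B`
    have hplace : ∀ (F : Type u) [Field F] [Algebra L F] [Algebra B F] [IsScalarTower B L F]
        (ι : L ⊗[K] K₁ →ₐ[L] F) (U : ValuationSubring F), EtRam.Dominates B (algebraMap B F) U →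
        U.comap ι.toRingHom = V := by
      intro F _ _ _ _ ι U hU
      have hι : ∀ x : B, ι (algebraMap B (L ⊗[K] K₁) x) = algebraMap B F x := fun x => by
        rw [IsScalarTower.algebraMap_apply B L (L ⊗[K] K₁), ι.commutes, ← IsScalarTower.algebraMap_apply]
      refine huniq _ ⟨fun x => show ι _ ∈ U by rw [hι]; exact hU.1 x,
        fun x hx => (EtRam46.comap_lt_one_iff (W := U) (f := ι.toRingHom) _).2 ?_⟩
      show U.valuation (ι _) < 1
      rw [hι]; exact hU.2 x hx
    rcases descend_top hw hn a with ⟨c, N, b, hN, hpN, hbn, hc⟩ | ⟨c, s, hs, hc⟩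
    · refine ⟨p, K₁, inferInstance, inferInstance, π₁, 0, hp.pos, hK₁, hK₁sep, hlev, fun F _ _ _ _ f hf => ?_⟩
      letI : Algebra K F := ((algebraMap L F).comp (algebraMap K L)).toAlgebra
      haveI : IsScalarTower K L F := IsScalarTower.of_algebraMap_eq fun _ => rfl
      let fK : K₁ →ₐ[K] F := { toRingHom := f, commutes' := RingHom.congr_fun hf }
      let ι : L ⊗[K] K₁ →ₐ[L] F := Algebra.TensorProduct.lift (Algebra.ofId L F) fK fun _ _ => Commute.all _ _
      have hιf : ι (f₁ π₁) = f π₁ := by simp [ι, f₁, fK]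
      refine ⟨ι c, Or.inr ⟨N, b, hN, hpN, hbn, fun U hU => ?_⟩⟩
      have h2 := hc
      rw [← hξ', ← hplace F ι U hU, EtRam46.comap_lt_one_iff] at h2
      rw [map_zero, sub_zero, ← hιf, ← ι.commutes, ← map_pow, ← map_pow, ← map_sub, ← map_add, ← map_mul,
        IsScalarTower.algebraMap_apply B L F, ← ι.commutes, ← IsScalarTower.algebraMap_apply B L (L ⊗[K] K₁),
        ← map_sub]
      exact h2
    -- the next level
    let A₁ := V.comap f₁
    have hdA₁ : EtRam.Dominates A ((algebraMap K K₁).comp (algebraMap A K)) A₁ := by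
      refine ⟨fun x => show f₁ _ ∈ V from ?_, fun x hx => (EtRam46.comap_lt_one_iff (W := V) (f := f₁) _).2 ?_⟩
      · rw [RingHom.comp_apply, ← hAK, hA₁]; exact hV.1 _
      · rw [RingHom.comp_apply, ← hAK, hA₁]
        exact hV.2 _ ((mem_maximalIdeal _).2 fun hu => (mem_maximalIdeal _).1 hx (IsLocalHom.map_nonunit x hu))
    haveI : IsDiscreteValuationRing A₁ := EtRam46.isDVR_of_finite K hdA₁
    letI : Algebra A₁ V := (EtRam.inclOfComap V f₁).toAlgebra
    haveI : IsLocalHom (algebraMap A₁ V) := EtRam.isLocalHom_inclOfComap V f₁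
    letI : Algebra K₁ (L ⊗[K] K₁) := f₁.toAlgebra
    letI : Algebra A₁ (L ⊗[K] K₁) := (f₁.comp A₁.subtype).toAlgebra
    haveI : IsScalarTower A₁ K₁ (L ⊗[K] K₁) := IsScalarTower.of_algebraMap_eq fun _ => rfl
    haveI : IsScalarTower A₁ V (L ⊗[K] K₁) := IsScalarTower.of_algebraMap_eq fun _ => rfl
    have hπ₁A : π₁ ∈ A₁ := (V.valuation_le_one_iff _).1 htlt.le
    let π' : A₁ := ⟨π₁, hπ₁A⟩
    let tV : V := algebraMap A₁ V π'
    have htV : (tV : L ⊗[K] K₁) = f₁ π₁ := rfl
    have hπ₁0 : π₁ ≠ 0 := fun h => hw.t_ne (by rw [h, map_zero])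
    have hdvd : ∀ x : V, tV ∣ x ↔ V.valuation (x : L ⊗[K] K₁) < 1 := fun x => by
      refine ⟨?_, fun hx => ?_⟩
      · rintro ⟨y, rfl⟩
        show V.valuation (f₁ π₁ * (y : L ⊗[K] K₁)) < 1
        rw [map_mul]
        exact (mul_le_of_le_one_right' (V.valuation_le_one y)).trans_lt htlt
      · obtain ⟨y, hy, hxy⟩ := hmV _ hx
        exact ⟨⟨y, hy⟩, Subtype.ext hxy⟩
    have hres' : ∀ x : V, ∃ β : B, V.valuation ((x : L ⊗[K] K₁) - algebraMap B (L ⊗[K] K₁) β) < 1 :=
      fun x => hres x x.2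
    have hback : ∀ (β y : B) (k : ℕ) (x z : V), V.valuation ((x : L ⊗[K] K₁) - algebraMap B (L ⊗[K] K₁) β) < 1 →
        V.valuation ((z : L ⊗[K] K₁) - algebraMap B (L ⊗[K] K₁) y) < 1 → tV ∣ x - z ^ k →
        algebraMap A B π ∣ β - y ^ k := by
      intro β y k x z hx hz hdiv
      rw [dvd_iff_val hb.hπB hV, map_sub, map_pow,
        show algebraMap B (L ⊗[K] K₁) β - algebraMap B (L ⊗[K] K₁) y ^ k =
          ((z : L ⊗[K] K₁) ^ k - algebraMap B (L ⊗[K] K₁) y ^ k) + ((x : L ⊗[K] K₁) - (z : L ⊗[K] K₁) ^ k) -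
            ((x : L ⊗[K] K₁) - algebraMap B (L ⊗[K] K₁) β) by ring]
      refine (Valuation.map_sub _ _ _).trans_lt (max_lt ((Valuation.map_add _ _ _).trans_lt
        (max_lt (pow_sub_pow_lt z.2 (hV.1 y) hz k) ?_)) hx)
      have h2 := (hdvd _).1 hdiv
      simpa using h2
    have hb₁ : AbsorbBase A₁ V p π' := by
      refine ⟨?_, ?_, fun x => ?_, fun x hx => ?_⟩
      · refine le_antisymm (fun x hx => ?_) ((Ideal.span_singleton_le_iff_mem _).2 ((A₁.valuation_lt_one_iff π').2
          ((EtRam46.comap_lt_one_iff (W := V) (f := f₁) _).2 htlt)))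
        have h1 := (EtRam46.comap_lt_one_iff (W := V) (f := f₁) _).1 ((A₁.valuation_lt_one_iff x).1 hx)
        obtain ⟨y, hy, hxy⟩ := hmV _ h1
        refine Ideal.mem_span_singleton'.2 ⟨⟨(x : K₁) / π₁, show f₁ _ ∈ V from ?_⟩,
          Subtype.ext (div_mul_cancel₀ _ hπ₁0)⟩
        rw [map_div₀, hxy, mul_div_cancel_left₀ _ ((map_ne_zero f₁).2 hπ₁0)]
        exact hy
      · ext x
        rw [Ideal.mem_span_singleton]
        exact (V.valuation_lt_one_iff x).trans (hdvd x).symm
      · obtain ⟨a₀, ha₀⟩ : ∃ a₀ : A, A₁.valuation ((x : K₁) - algebraMap A K₁ a₀) < 1 := by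
          obtain ⟨β, hβ⟩ := (isTotallyRamified_of_root (K := K) hb.hπ hp.pos
            (fun W hW => by rw [IsScalarTower.algebraMap_eq A K K₁] at hW; rw [hAK]; exact hlev W hW) hK₁.le).2.2 A₁
            (by rwa [IsScalarTower.algebraMap_eq A K K₁]) (residue A₁ x)
          exact ⟨β, (A₁.valuation_lt_one_iff _).1 (Ideal.Quotient.eq.1 hβ.symm)⟩
        obtain ⟨a₁, ha₁⟩ := hb.hperf a₀
        have ha₁mem : algebraMap A K₁ a₁ ∈ A₁ := by rw [hAK]; exact hdA₁.1 a₁
        refine ⟨⟨_, ha₁mem⟩, ?_⟩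
        have hxd : A₁.valuation ((x : K₁) - algebraMap A K₁ a₁ ^ p) < 1 := by
          rw [show (x : K₁) - algebraMap A K₁ a₁ ^ p =
            ((x : K₁) - algebraMap A K₁ a₀) + algebraMap A K₁ (a₀ - a₁ ^ p) by rw [map_sub, map_pow]; ring]
          refine (Valuation.map_add _ _ _).trans_lt (max_lt ha₀ ?_)
          rw [hAK]
          exact hdA₁.2 _ (hb.hπ ▸ Ideal.mem_span_singleton.2 ha₁)
        have h2 := (EtRam46.comap_lt_one_iff (W := V) (f := f₁) _).1 hxd
        obtain ⟨y, hy, hxy⟩ := hmV _ h2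
        refine ⟨⟨((x : K₁) - algebraMap A K₁ a₁ ^ p) / π₁, show f₁ _ ∈ V from ?_⟩, Subtype.ext ?_⟩
        · rw [map_div₀, hxy, mul_div_cancel_left₀ _ ((map_ne_zero f₁).2 hπ₁0)]
          exact hy
        · show (x : K₁) - algebraMap A K₁ a₁ ^ p = π₁ * (((x : K₁) - algebraMap A K₁ a₁ ^ p) / π₁)
          rw [mul_div_cancel₀ _ hπ₁0]
      · obtain ⟨β, hβ⟩ := hres' x
        obtain ⟨α, hα⟩ := hb.hinf β fun k => by
          obtain ⟨y, hy⟩ := hx k
          obtain ⟨γ, hγ⟩ := hres' y
          exact ⟨γ, hback β γ _ x y hβ hγ hy⟩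
        have hαmem : algebraMap A K₁ α ∈ A₁ := by rw [hAK]; exact hdA₁.1 α
        refine ⟨⟨_, hαmem⟩, (hdvd _).2 ?_⟩
        show V.valuation ((x : L ⊗[K] K₁) - f₁ (algebraMap A K₁ α)) < 1
        rw [hA₁, show (x : L ⊗[K] K₁) - algebraMap B (L ⊗[K] K₁) (algebraMap A B α) =
          ((x : L ⊗[K] K₁) - algebraMap B (L ⊗[K] K₁) β) + algebraMap B (L ⊗[K] K₁) (β - algebraMap A B α) by
            rw [map_sub]; ring]
        exact (Valuation.map_add _ _ _).trans_lt (max_lt hβ ((dvd_iff_val hb.hπB hV _).1 hα))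
    set ξ₁ := algebraMap L (L ⊗[K] K₁) ξ + (c ^ p - c) with hξ₁
    rw [← hξ', ← hξ₁] at hc
    have ha₁ : ξ₁ * f₁ π₁ ^ n ∈ V := by
      have h1 := V.toSubring.add_mem (EtRam46.mem_of_lt hc) (hV.1 s)
      rwa [sub_add_cancel] at h1
    obtain ⟨q, K₂, _, _, π₂, η, hq, hK₂, hK₂sep, hlev₂, hout⟩ :=
      ih A₁ V K₁ (L ⊗[K] K₁) π' hb₁ ξ₁ ⟨_, ha₁⟩ rfl fun y hy => by
        obtain ⟨γ, hγ⟩ := hres' y
        have h1 : algebraMap A B π ∣ s - γ ^ p ^ d := hback s γ _ ⟨_, ha₁⟩ y hc hγ hy
        refine hd γ ?_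
        have h2 : s - γ ^ p ^ d ∣ s ^ p - (γ ^ p ^ d) ^ p := sub_dvd_pow_sub_pow _ _ _
        rw [pow_succ, pow_mul, show a - (γ ^ p ^ d) ^ p = (a - s ^ p) + (s ^ p - (γ ^ p ^ d) ^ p) by ring]
        exact dvd_add hs (h1.trans h2)
    letI : Algebra K K₂ := ((algebraMap K₁ K₂).comp (algebraMap K K₁)).toAlgebra
    haveI : IsScalarTower K K₁ K₂ := IsScalarTower.of_algebraMap_eq fun _ => rfl
    haveI := hK₂sep
    refine ⟨p * q, K₂, inferInstance, inferInstance, π₂, η, Nat.mul_pos hp.pos hq,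
      by rw [← Module.finrank_mul_finrank K K₁ K₂, hK₁, hK₂], Algebra.IsSeparable.trans K K₁ K₂, ?_,
      fun F _ _ _ _ f hf => ?_⟩
    · intro W hW
      have hu : W.comap (algebraMap K₁ K₂) = A₁ := by
        have hdW : EtRam.Dominates A ((algebraMap K K₁).comp (algebraMap A K)) (W.comap (algebraMap K₁ K₂)) :=
          ⟨fun x => hW.1 x, fun x hx => (EtRam46.comap_lt_one_iff (W := W) (f := algebraMap K₁ K₂) _).2 (hW.2 x hx)⟩
        refine (isTotallyRamified_of_root (K := K) hb.hπ hp.pos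
          (fun W hW => by rw [IsScalarTower.algebraMap_eq A K K₁] at hW; rw [hAK]; exact hlev W hW) hK₁.le).2.1 _ _
          (by rwa [IsScalarTower.algebraMap_eq A K K₁]) (by rwa [IsScalarTower.algebraMap_eq A K K₁])
      have hW₁ : EtRam.Dominates A₁ ((algebraMap K₁ K₂).comp (algebraMap A₁ K₁)) W := by
        refine ⟨fun x => show (x : K₁) ∈ W.comap (algebraMap K₁ K₂) by rw [hu]; exact x.2,
          fun x hx => (EtRam46.comap_lt_one_iff (W := W) (f := algebraMap K₁ K₂) _).1 ?_⟩
        rw [hu]; exact (A₁.valuation_lt_one_iff x).1 hx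
      have h1 := hlev₂ W hW₁
      rw [mul_comm, pow_mul, h1]
      show W.valuation (algebraMap K₁ K₂ π₁) ^ p = W.valuation (algebraMap K₁ K₂ (algebraMap K K₁ (algebraMap A K π)))
      have h2 := hlev A₁ hdA₁
      rw [← hu, ← map_pow, EtRam46.comap_eq_iff, map_pow, map_pow] at h2
      exact h2
    -- the outcome
    letI : Algebra K F := ((algebraMap L F).comp (algebraMap K L)).toAlgebra
    haveI : IsScalarTower K L F := IsScalarTower.of_algebraMap_eq fun _ => rfl
    let fK : K₁ →ₐ[K] F := { toRingHom := f.comp (algebraMap K₁ K₂), commutes' := RingHom.congr_fun hf }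
    let ι : L ⊗[K] K₁ →ₐ[L] F := Algebra.TensorProduct.lift (Algebra.ofId L F) fK fun _ _ => Commute.all _ _
    letI : Algebra (L ⊗[K] K₁) F := ι.toRingHom.toAlgebra
    letI : Algebra V F := (ι.toRingHom.comp V.subtype).toAlgebra
    haveI : IsScalarTower V (L ⊗[K] K₁) F := IsScalarTower.of_algebraMap_eq fun _ => rfl
    haveI : CharP F p := charP_of_injective_algebraMap (algebraMap L F).injective p
    obtain ⟨c', hc'⟩ := hout F f (RingHom.ext fun x => by
      show f (algebraMap K₁ K₂ x) = ι (f₁ x)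
      simp [ι, f₁, fK])
    have hξF : algebraMap (L ⊗[K] K₁) F ξ₁ = algebraMap L F ξ + ((ι c) ^ p - ι c) := by
      show ι ξ₁ = _
      rw [hξ₁, map_add, map_sub, map_pow, ι.commutes]
    have hUV : ∀ U, EtRam.Dominates B (algebraMap B F) U → EtRam.Dominates V (algebraMap V F) U := fun U hU => by
      have h2 := hplace F ι U hU
      refine ⟨fun x => ?_, fun x hx => ?_⟩
      · exact (SetLike.ext_iff.1 h2 (x : L ⊗[K] K₁)).2 x.2
      · have h3 := (V.valuation_lt_one_iff x).1 hx
        show U.valuation (ι ((x : L ⊗[K] K₁))) < 1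
        generalize (x : L ⊗[K] K₁) = y at h3 ⊢
        rw [← h2, EtRam46.comap_lt_one_iff] at h3
        exact h3
    refine ⟨ι c + c', ?_⟩
    rw [wp_add, show algebraMap L F ξ - f η + ((ι c ^ p - ι c) + (c' ^ p - c')) =
      algebraMap (L ⊗[K] K₁) F ξ₁ - f η + (c' ^ p - c') by rw [hξF]; ring]
    rcases hc' with hc' | ⟨N, b, hN, hpN, hbn, hc'⟩
    · exact Or.inl fun U hU => hc' U (hUV U hU)
    · obtain ⟨β, hβ⟩ := hres' b
      refine Or.inr ⟨N, β, hN, hpN, fun r hr => ?_, fun U hU => ?_⟩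
      · refine hbn ⟨_, hV.1 r⟩ ((hdvd _).2 ?_)
        show V.valuation ((b : L ⊗[K] K₁) - algebraMap B (L ⊗[K] K₁) r ^ p) < 1
        rw [show (b : L ⊗[K] K₁) - algebraMap B (L ⊗[K] K₁) r ^ p =
          ((b : L ⊗[K] K₁) - algebraMap B (L ⊗[K] K₁) β) + algebraMap B (L ⊗[K] K₁) (β - r ^ p) by
            rw [map_sub, map_pow]; ring]
        exact (Valuation.map_add _ _ _).trans_lt (max_lt hβ ((dvd_iff_val hb.hπB hV _).1 hr))
      · have h4 : U.valuation (ι.toRingHom ((b : L ⊗[K] K₁) - algebraMap B (L ⊗[K] K₁) β)) < 1 := by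
          have h8 := hβ
          generalize (b : L ⊗[K] K₁) - algebraMap B (L ⊗[K] K₁) β = y at h8 ⊢
          rw [← hplace F ι U hU, EtRam46.comap_lt_one_iff] at h8
          exact h8
        have h6 : ι (algebraMap B (L ⊗[K] K₁) β) = algebraMap B F β := by
          rw [IsScalarTower.algebraMap_apply B L (L ⊗[K] K₁), ι.commutes, ← IsScalarTower.algebraMap_apply]
        have h7 : U.valuation (algebraMap V F b - algebraMap B F β) < 1 := by
          rw [← h6]; show U.valuation (ι _ - ι _) < 1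
          rw [← map_sub]; exact h4
        have h5 := hc' U (hUV U hU)
        rw [show ∀ X : F, X - algebraMap B F β = (X - algebraMap V F b) + (algebraMap V F b - algebraMap B F β) from
          fun X => by ring]
        exact (Valuation.map_add _ _ _).trans_lt (max_lt h5 h7)

theorem absorb (p : ℕ) [Fact p.Prime] : ∀ n, AbsorbProp.{u} p n := by
  intro n
  induction n using Nat.strong_induction_on with
  | _ n ih =>
    intro A B K L _ _ _ _ _ _ _ _ _ _ _ _ _ _ _ _ _ _ _ π hb ξ a hξ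
    classical
    have hp := (Fact.out : p.Prime)
    set P := algebraMap B L (algebraMap A B π) with hPdef
    have hirr : Irreducible (algebraMap A B π) := (IsDiscreteValuationRing.irreducible_iff_uniformizer _).2 hb.hπB
    have hP : P ≠ 0 := fun h => hirr.ne_zero (IsFractionRing.injective B L (h.trans (map_zero _).symm))
    have hmem : algebraMap A B π ∈ maximalIdeal B := hb.hπB ▸ Ideal.mem_span_singleton_self _
    rcases Nat.eq_zero_or_pos n with rfl | hn0
    · refine Absorbs.of_base hb fun F _ _ _ _ => ⟨0, Or.inl fun V hV => ?_⟩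
      rw [zero_pow hp.ne_zero, sub_zero, add_zero, show ξ = algebraMap B L a by rw [← hξ, pow_zero, mul_one],
        ← IsScalarTower.algebraMap_apply]
      exact (V.valuation_le_one_iff _).2 (hV.1 a)
    have hlower : ∀ (m : ℕ) (x' : B), m < n → ∀ (ξ' : L), ξ' * P ^ m = algebraMap B L x' → Absorbs A B K L p π ξ' :=
      fun m x' hm ξ' h => ih m hm A B K L π hb ξ' x' h
    by_cases hdiv : algebraMap A B π ∣ a
    · obtain ⟨a', rfl⟩ := hdiv
      refine hlower (n - 1) a' (by omega) ξ (mul_right_cancel₀ hP ?_)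
      rw [mul_assoc, ← pow_succ, Nat.sub_add_cancel hn0, hξ, map_mul, mul_comm]
    by_cases hpn : p ∣ n
    · obtain ⟨m, rfl⟩ := hpn
      by_cases hr : ∃ r : B, algebraMap A B π ∣ a - r ^ p
      · obtain ⟨r, x', hx'⟩ := hr
        have hm : 0 < m := Nat.pos_of_mul_pos_left hn0
        let d : L := algebraMap B L r / P ^ m
        refine Absorbs.shift_wp (ξ := ξ - d ^ p + d) (-d) (by
          rw [show -d = 0 - d by ring, sub_pow_char, zero_pow hp.ne_zero]; ring) ?_
        have hmle : m ≤ p * m - 1 := by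
          have := Nat.mul_le_mul_right m hp.two_le
          omega
        refine hlower (p * m - 1) (x' + r * algebraMap A B π ^ (p * m - 1 - m)) (by omega) _ (mul_right_cancel₀ hP ?_)
        have hd : d ^ p * P ^ (p * m) = algebraMap B L r ^ p := by
          rw [div_pow, ← pow_mul, mul_comm m p, div_mul_cancel₀ _ (pow_ne_zero _ hP)]
        have hd2 : d * P ^ (p * m) = algebraMap B L r * P ^ (p * m - 1 - m) * P := by
          rw [mul_assoc, ← pow_succ, show p * m = m + (p * m - 1 - m + 1) by omega, pow_add, ← mul_assoc,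
            div_mul_cancel₀ _ (pow_ne_zero _ hP), show m + (p * m - 1 - m + 1) - 1 - m = p * m - 1 - m by omega]
        rw [mul_assoc, ← pow_succ, Nat.sub_add_cancel (by omega : 1 ≤ p * m), add_mul, sub_mul, hξ, hd, hd2,
          map_add, map_mul, map_pow, ← hPdef, add_mul, ← map_pow, ← map_sub, hx', map_mul, ← hPdef]
        ring
      · refine Absorbs.of_base hb fun F _ _ _ _ => ⟨0, Or.inr ⟨p * m, a, hn0, dvd_mul_right _ _,
          fun r hr' => hr ⟨r, hr'⟩, fun V hV => ?_⟩⟩
        rw [zero_pow hp.ne_zero, sub_zero, add_zero, IsScalarTower.algebraMap_apply A B L, ← map_pow, ← map_mul, hξ,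
          ← IsScalarTower.algebraMap_apply, sub_self, map_zero]
        exact zero_lt_one
    by_cases hinf : ∀ k, ∃ y : B, algebraMap A B π ∣ a - y ^ p ^ k
    · obtain ⟨α, x', hx'⟩ := hb.hinf a hinf
      refine Absorbs.shift_K (algebraMap A K α / algebraMap A K π ^ n) (hlower (n - 1) x' (by omega) _
        (mul_right_cancel₀ hP ?_))
      rw [map_div₀, map_pow, ← IsScalarTower.algebraMap_apply, ← IsScalarTower.algebraMap_apply,
        IsScalarTower.algebraMap_apply A B L, IsScalarTower.algebraMap_apply A B L, ← hPdef, mul_assoc, ← pow_succ,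
        Nat.sub_add_cancel hn0, sub_mul, hξ, div_mul_cancel₀ _ (pow_ne_zero _ hP), ← map_sub, hx', map_mul, mul_comm]
    · push Not at hinf
      obtain ⟨k, hk⟩ := hinf
      exact absorb_top hpn k A B K L π hb ξ a hξ hk

end Groth.Agent.EtRam93
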