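import Mathlib

/-!
# Lowering a pole through `p`th roots
-/

set_option autoImplicit false
set_option linter.style.haveILetI false
set_option linter.unusedSectionVars false

universe u

namespace Groth.Agent.EtRam93

variable {F B : Type u} [Field F] [CommRing B] [Algebra B F] (V : ValuationSubring F)
  {p : ℕ} [Fact p.Prime] [CharP F p] {t w : F} {πB : B} {n : ℕ}

/-- `b` modulo `πB` is not a `p`th power. -/
def NotPthMod (πB : B) (p : ℕ) (b : B) : Prop := ∀ r : B, ¬ πB ∣ b - r ^ p

/-- The hypotheses on a root `t` of a uniformizer. -/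
structure RootData (V : ValuationSubring F) (p : ℕ) (πB : B) (t w : F) (n : ℕ) : Prop where
  mem : ∀ b : B, algebraMap B F b ∈ V
  pow : t ^ p = algebraMap B F πB * w
  ne : algebraMap B F πB ≠ 0
  lt : V.valuation (algebraMap B F πB) < 1
  vw : V.valuation w = 1
  close : V.valuation (1 - w) ≤ V.valuation (algebraMap B F πB) ^ (n + 1)

variable {V}

theorem RootData.val_t (h : RootData V p πB t w n) : V.valuation t ^ p = V.valuation (algebraMap B F πB) := by
  rw [← map_pow, h.pow, map_mul, h.vw, mul_one]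

theorem RootData.t_lt (h : RootData V p πB t w n) : V.valuation t < 1 := by
  by_contra hc
  exact not_lt.2 (h.val_t ▸ one_le_pow₀ (not_lt.1 hc)) h.lt

theorem RootData.t_ne (h : RootData V p πB t w n) : t ≠ 0 := fun h0 => by
  have := h.pow
  rw [h0, zero_pow (Fact.out : p.Prime).ne_zero, eq_comm, mul_eq_zero] at this
  rcases this with h1 | h1
  · exact h.ne h1
  · have := h.vw
    rw [h1, map_zero] at this
    exact zero_ne_one this

theorem RootData.w_sub_le (h : RootData V p πB t w n) (i : ℕ) :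
    V.valuation (1 - w ^ i) ≤ V.valuation (algebraMap B F πB) ^ (n + 1) := by
  refine le_trans ?_ h.close
  rw [show 1 - w ^ i = (1 - w) * ∑ k ∈ Finset.range i, w ^ k from (mul_neg_geom_sum w i).symm, map_mul]
  exact mul_le_of_le_one_right' ((V.valuation_le_one_iff _).2
    (sum_mem fun k _ => pow_mem ((V.valuation_le_one_iff w).1 h.vw.le) k))

/-- The error made by replacing `π ^ l` with `t ^ (p l)`. -/
theorem RootData.error_lt (h : RootData V p πB t w n) {l : ℕ} (hl : l ≤ n) (s : B) :
    V.valuation ((algebraMap B F s ^ p / algebraMap B F πB ^ l - (algebraMap B F s / t ^ l) ^ p) * t ^ n) < 1 := by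
  have hp := (Fact.out : p.Prime)
  have hw0 : w ≠ 0 := fun h0 => by have := h.vw; rw [h0, map_zero] at this; exact zero_ne_one this
  have hwl : w ^ l ≠ 0 := pow_ne_zero l hw0
  have heq : algebraMap B F s ^ p / algebraMap B F πB ^ l - (algebraMap B F s / t ^ l) ^ p =
      algebraMap B F s ^ p * (-(1 - w ^ l)) / (algebraMap B F πB ^ l * w ^ l) := by
    rw [div_pow, ← pow_mul, mul_comm l p, pow_mul, h.pow, mul_pow]
    have := pow_ne_zero l h.ne
    field_simp
    ring
  rw [heq, map_mul, map_div₀, map_mul, map_mul, Valuation.map_neg, map_pow, map_pow, map_pow, h.vw, one_pow, mul_one,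
    map_pow]
  set P := V.valuation (algebraMap B F πB) with hP
  have hP0 : 0 < P := zero_lt_iff.2 ((Valuation.ne_zero_iff _).2 h.ne)
  refine lt_of_le_of_lt (mul_le_of_le_one_right' (pow_le_one₀ zero_le h.t_lt.le)) ?_
  rw [div_lt_one₀ (pow_pos hP0 l)]
  refine lt_of_le_of_lt (mul_le_of_le_one_left' (pow_le_one₀ zero_le ((V.valuation_le_one_iff _).2 (h.mem s)))) ?_
  exact (h.w_sub_le l).trans_lt (pow_lt_pow_right_of_lt_one₀ hP0 h.lt (by omega))

theorem wp_add (a b : F) : (a + b) ^ p - (a + b) = (a ^ p - a) + (b ^ p - b) := by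
  rw [add_pow_char]; ring

theorem descend (h : RootData V p πB t w n) :
    ∀ l, l < n → ∀ (x : B) (Y : F), V.valuation (Y * t ^ n) < 1 →
      (∃ c : F, V.valuation ((algebraMap B F x / algebraMap B F πB ^ l + Y + (c ^ p - c)) * t ^ n) < 1) ∨
      ∃ (c : F) (N : ℕ) (b : B), n ≤ N ∧ 0 < N ∧ p ∣ N ∧ NotPthMod πB p b ∧
        V.valuation ((algebraMap B F x / algebraMap B F πB ^ l + Y + (c ^ p - c)) * t ^ N - algebraMap B F b) < 1 := by
  have hp := (Fact.out : p.Prime)
  intro l
  induction l with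
  | zero =>
    intro hn x Y hY
    refine Or.inl ⟨0, ?_⟩
    rw [pow_zero, div_one, zero_pow hp.ne_zero, sub_zero, add_zero, add_mul]
    refine (Valuation.map_add _ _ _).trans_lt (max_lt ?_ hY)
    rw [map_mul, map_pow]
    exact (mul_le_of_le_one_left' ((V.valuation_le_one_iff _).2 (h.mem x))).trans_lt (pow_lt_one₀ zero_le h.t_lt hn.ne')
  | succ l ih =>
    intro hl x Y hY
    by_cases hpl : p * (l + 1) < n
    · refine Or.inl ⟨0, ?_⟩
      rw [zero_pow hp.ne_zero, sub_zero, add_zero, add_mul]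
      refine (Valuation.map_add _ _ _).trans_lt (max_lt ?_ hY)
      have hn : n = p * (l + 1) + (n - p * (l + 1)) := by omega
      rw [div_mul_eq_mul_div, map_div₀, map_mul, map_pow, map_pow, hn, pow_add, pow_mul, h.val_t,
        div_lt_one₀ (pow_pos (zero_lt_iff.2 ((Valuation.ne_zero_iff _).2 h.ne)) _)]
      refine (mul_le_of_le_one_left' ((V.valuation_le_one_iff _).2 (h.mem x))).trans_lt ?_
      exact mul_lt_of_lt_one_right (pow_pos (zero_lt_iff.2 ((Valuation.ne_zero_iff _).2 h.ne)) _)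
        (pow_lt_one₀ zero_le h.t_lt (by omega))
    by_cases hx : ∃ s : B, πB ∣ x - s ^ p
    swap
    · refine Or.inr ⟨0, p * (l + 1), x, not_lt.1 hpl, Nat.mul_pos hp.pos l.succ_pos, dvd_mul_right _ _,
        fun r hr => hx ⟨r, hr⟩, ?_⟩
      rw [zero_pow hp.ne_zero, sub_zero, add_zero, add_mul, div_mul_eq_mul_div, pow_mul, h.pow, mul_pow,
        mul_div_assoc, mul_div_cancel_left₀ _ (pow_ne_zero _ h.ne),
        show algebraMap B F x * w ^ (l + 1) + Y * (algebraMap B F πB ^ (l + 1) * w ^ (l + 1)) - algebraMap B F x =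
          algebraMap B F x * (-(1 - w ^ (l + 1))) + Y * (algebraMap B F πB ^ (l + 1) * w ^ (l + 1)) by ring,
        ← mul_pow, ← h.pow, ← pow_mul]
      refine (Valuation.map_add _ _ _).trans_lt (max_lt ?_ ?_)
      · rw [map_mul, Valuation.map_neg]
        exact (mul_le_of_le_one_left' ((V.valuation_le_one_iff _).2 (h.mem x))).trans_lt
          ((h.w_sub_le _).trans_lt (pow_lt_one₀ zero_le h.lt n.succ_ne_zero))
      · have hY' : V.valuation (Y * t ^ n) < 1 := hY
        rw [map_mul, map_pow] at hY' ⊢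
        exact (mul_le_mul_right (pow_le_pow_right_of_le_one' h.t_lt.le (not_lt.1 hpl)) _).trans_lt hY'
    obtain ⟨s, x', hx'⟩ := hx
    let c₀ : F := -(algebraMap B F s / t ^ (l + 1))
    let Y' : F := Y + (algebraMap B F s ^ p / algebraMap B F πB ^ (l + 1) - (algebraMap B F s / t ^ (l + 1)) ^ p) +
      algebraMap B F s / t ^ (l + 1)
    have hY' : V.valuation (Y' * t ^ n) < 1 := by
      rw [show Y' = Y + (algebraMap B F s ^ p / algebraMap B F πB ^ (l + 1) - (algebraMap B F s / t ^ (l + 1)) ^ p) +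
        algebraMap B F s / t ^ (l + 1) from rfl, add_mul, add_mul]
      refine (Valuation.map_add _ _ _).trans_lt (max_lt ((Valuation.map_add _ _ _).trans_lt
        (max_lt hY (h.error_lt hl.le s))) ?_)
      have hn : n = (l + 1) + (n - (l + 1)) := by omega
      rw [div_mul_eq_mul_div, map_div₀, map_mul, map_pow, map_pow, hn, pow_add,
        div_lt_one₀ (pow_pos (zero_lt_iff.2 ((Valuation.ne_zero_iff _).2 h.t_ne)) _)]
      refine (mul_le_of_le_one_left' ((V.valuation_le_one_iff _).2 (h.mem s))).trans_lt ?_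
      exact mul_lt_of_lt_one_right (pow_pos (zero_lt_iff.2 ((Valuation.ne_zero_iff _).2 h.t_ne)) _)
        (pow_lt_one₀ zero_le h.t_lt (by omega))
    have hkey : ∀ c : F, algebraMap B F x / algebraMap B F πB ^ (l + 1) + Y + ((c + c₀) ^ p - (c + c₀)) =
        algebraMap B F x' / algebraMap B F πB ^ l + Y' + (c ^ p - c) := fun c => by
      have hc₀ : c₀ ^ p = -(algebraMap B F s / t ^ (l + 1)) ^ p := by
        rw [show c₀ = 0 - algebraMap B F s / t ^ (l + 1) by simp [c₀], sub_pow_char, zero_pow hp.ne_zero, zero_sub]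
      rw [wp_add, hc₀, show x = s ^ p + πB * x' by linear_combination hx', map_add, map_pow, map_mul, add_div,
        pow_succ' (algebraMap B F πB) l, mul_div_mul_left _ _ h.ne]
      simp only [Y', c₀]
      ring
    rcases ih (by omega) x' Y' hY' with ⟨c, hc⟩ | ⟨c, N, b, hnN, hN, hpN, hb, hc⟩
    · exact Or.inl ⟨c + c₀, by rw [hkey]; exact hc⟩
    · exact Or.inr ⟨c + c₀, N, b, hnN, hN, hpN, hb, by rw [hkey]; exact hc⟩

/-- The first step: a pole of order `n` prime to `p` with leading residue a `p`th power. -/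
theorem descend_top (h : RootData V p πB t w n) (hn : ¬ p ∣ n) (a : B) :
    (∃ (c : F) (N : ℕ) (b : B), 0 < N ∧ p ∣ N ∧ NotPthMod πB p b ∧
        V.valuation ((algebraMap B F a / algebraMap B F πB ^ n + (c ^ p - c)) * t ^ N - algebraMap B F b) < 1) ∨
      ∃ (c : F) (s : B), πB ∣ a - s ^ p ∧
        V.valuation ((algebraMap B F a / algebraMap B F πB ^ n + (c ^ p - c)) * t ^ n - algebraMap B F s) < 1 := by
  have hp := (Fact.out : p.Prime)
  have hn0 : n ≠ 0 := fun h0 => hn (h0 ▸ dvd_zero p)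
  by_cases hx : ∃ s : B, πB ∣ a - s ^ p
  swap
  · refine Or.inl ⟨0, p * n, a, Nat.mul_pos hp.pos (Nat.pos_of_ne_zero hn0), dvd_mul_right _ _,
      fun r hr => hx ⟨r, hr⟩, ?_⟩
    rw [zero_pow hp.ne_zero, sub_zero, add_zero, div_mul_eq_mul_div, pow_mul, h.pow, mul_pow,
      mul_div_assoc, mul_div_cancel_left₀ _ (pow_ne_zero _ h.ne),
      show algebraMap B F a * w ^ n - algebraMap B F a = algebraMap B F a * (-(1 - w ^ n)) by ring,
      map_mul, Valuation.map_neg]
    exact (mul_le_of_le_one_left' ((V.valuation_le_one_iff _).2 (h.mem a))).trans_lt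
      ((h.w_sub_le _).trans_lt (pow_lt_one₀ zero_le h.lt n.succ_ne_zero))
  obtain ⟨s, x', hx'⟩ := hx
  obtain ⟨l, rfl⟩ := Nat.exists_eq_succ_of_ne_zero hn0
  let c₀ : F := -(algebraMap B F s / t ^ (l + 1))
  let Y' : F := algebraMap B F s ^ p / algebraMap B F πB ^ (l + 1) - (algebraMap B F s / t ^ (l + 1)) ^ p
  have hkey : ∀ c : F, algebraMap B F a / algebraMap B F πB ^ (l + 1) + ((c + c₀) ^ p - (c + c₀)) =
      algebraMap B F x' / algebraMap B F πB ^ l + Y' + (c ^ p - c) + algebraMap B F s / t ^ (l + 1) := fun c => by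
    have hc₀ : c₀ ^ p = -(algebraMap B F s / t ^ (l + 1)) ^ p := by
      rw [show c₀ = 0 - algebraMap B F s / t ^ (l + 1) by simp [c₀], sub_pow_char, zero_pow hp.ne_zero, zero_sub]
    rw [wp_add, hc₀, show a = s ^ p + πB * x' by linear_combination hx', map_add, map_pow, map_mul, add_div,
      pow_succ' (algebraMap B F πB) l, mul_div_mul_left _ _ h.ne]
    simp only [Y', c₀]
    ring
  rcases descend h l l.lt_succ_self x' Y' (h.error_lt le_rfl s) with ⟨c, hc⟩ | ⟨c, N, b, hnN, hN, hpN, hb, hc⟩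
  · refine Or.inr ⟨c + c₀, s, ⟨x', hx'⟩, ?_⟩
    rw [hkey, add_mul, div_mul_cancel₀ _ (pow_ne_zero _ h.t_ne), add_sub_cancel_right]
    exact hc
  · refine Or.inl ⟨c + c₀, N, b, hN, hpN, hb, ?_⟩
    have hne : l + 1 ≠ N := fun he => hn (by rw [show l.succ = N from he]; exact hpN)
    have hN' : N = (l + 1) + (N - (l + 1)) := by omega
    rw [hkey, add_mul, add_sub_right_comm]
    refine (Valuation.map_add _ _ _).trans_lt (max_lt hc ?_)
    conv_lhs => rw [hN']
    rw [pow_add t (l + 1) (N - (l + 1)), ← mul_assoc, div_mul_cancel₀ _ (pow_ne_zero _ h.t_ne), map_mul, map_pow]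
    exact (mul_le_of_le_one_left' ((V.valuation_le_one_iff _).2 (h.mem s))).trans_lt
      (pow_lt_one₀ zero_le h.t_lt (by omega))

end Groth.Agent.EtRam93
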