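import Groth.Agent.EtRam93.InsepStep.Root
import Groth.Agent.EtRam93.NagataDescent
import Groth.Agent.EtRam46.Tower
import Mathlib

/-!
# Totally ramified levels over a weakly unramified extension of DVRs

A level is a finite separable `K₁/K` of degree `q` with an element `π₁` with `v π₁ ^ q = v π` at every place
over `A`.  Then `L ⊗ K₁` is a field, and it carries a unique valuation subring over `B`, with uniformizer
`π₁` and the residue field of `B`.
-/

set_option autoImplicit false
set_option linter.style.haveILetI false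
set_option linter.unusedSectionVars false

universe u

open IsLocalRing Polynomial TensorProduct

namespace Groth.Agent.EtRam93

/-- The condition on `π₁`. -/
def IsLevel (A : Type u) [CommRing A] [IsLocalRing A] (K : Type u) {K₁ : Type u} [Field K] [Field K₁] [Algebra A K]
    [Algebra K K₁] (π : A) (π₁ : K₁) (q : ℕ) : Prop :=
  ∀ V : ValuationSubring K₁, EtRam.Dominates A ((algebraMap K K₁).comp (algebraMap A K)) V →
    V.valuation π₁ ^ q = V.valuation (algebraMap K K₁ (algebraMap A K π))

variable {A B K L : Type u} [CommRing A] [IsDomain A] [IsDiscreteValuationRing A]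
  [CommRing B] [IsDomain B] [IsDiscreteValuationRing B] [Algebra A B] [IsLocalHom (algebraMap A B)]
  [Field K] [Algebra A K] [IsFractionRing A K] [Field L] [Algebra B L] [IsFractionRing B L]
  [Algebra K L] [Algebra A L] [IsScalarTower A K L] [IsScalarTower A B L]
  {K₁ : Type u} [Field K₁] [Algebra K K₁] {π : A} {π₁ : K₁} {q : ℕ}

theorem IsLevel.pow_eq (h : IsLevel A K π π₁ q) {F : Type u} [Field F] [Algebra L F] [Algebra B F]
    [IsScalarTower B L F] (f : K₁ →+* F) (hf : f.comp (algebraMap K K₁) = (algebraMap L F).comp (algebraMap K L))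
    {W : ValuationSubring F} (hW : EtRam.Dominates B (algebraMap B F) W) :
    W.valuation (f π₁) ^ q = W.valuation (algebraMap B F (algebraMap A B π)) := by
  have hA : ∀ a : A, f (algebraMap K K₁ (algebraMap A K a)) = algebraMap B F (algebraMap A B a) := fun a => by
    rw [← RingHom.comp_apply, hf, RingHom.comp_apply, ← IsScalarTower.algebraMap_apply A K L,
      IsScalarTower.algebraMap_apply A B L, ← IsScalarTower.algebraMap_apply B L F]
  have hd : EtRam.Dominates A ((algebraMap K K₁).comp (algebraMap A K)) (W.comap f) := by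
    refine ⟨fun a => ?_, fun a ha => (EtRam46.comap_lt_one_iff (W := W) (f := f) _).2 ?_⟩
    · show f _ ∈ W
      rw [RingHom.comp_apply, hA]
      exact hW.1 _
    · rw [RingHom.comp_apply, hA]
      exact hW.2 _ ((mem_maximalIdeal _).2 fun hu => (mem_maximalIdeal _).1 ha (IsLocalHom.map_nonunit a hu))
  have h1 := h (W.comap f) hd
  rw [← map_pow] at h1 ⊢
  rw [← map_pow, ← hA]
  exact (EtRam46.comap_eq_iff (W := W) (f := f) _ _).1 h1

theorem compat_includeRight {Q : Type u} [CommRing Q] (g : L ⊗[K] K₁ →+* Q) :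
    (g.comp (Algebra.TensorProduct.includeRight : K₁ →ₐ[K] L ⊗[K] K₁).toRingHom).comp (algebraMap K K₁) =
      (g.comp (algebraMap L (L ⊗[K] K₁))).comp (algebraMap K L) := by
  ext x
  show g ((1 : L) ⊗ₜ[K] algebraMap K K₁ x) = g (algebraMap K L x ⊗ₜ[K] (1 : K₁))
  rw [Algebra.algebraMap_eq_smul_one, Algebra.algebraMap_eq_smul_one, TensorProduct.smul_tmul]

variable [FiniteDimensional K K₁] [Algebra.IsSeparable K K₁] (hπB : maximalIdeal B = Ideal.span {algebraMap A B π})
  (hq : 0 < q) (hlev : IsLevel A K π π₁ q) (hK₁ : Module.finrank K K₁ = q)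

include hπB hq hlev hK₁ in
theorem isField_level : IsField (L ⊗[K] K₁) := by
  haveI : IsReduced (L ⊗[K] K₁) := by
    haveI := isReduced_tensor_of_isSeparable K K₁ L
    exact isReduced_of_injective (Algebra.TensorProduct.comm K L K₁) (Algebra.TensorProduct.comm K L K₁).injective
  have hdimT : Module.finrank L (L ⊗[K] K₁) = q := (Module.finrank_baseChange (R := L) (S := K) (M' := K₁)).trans hK₁
  haveI : Nontrivial (L ⊗[K] K₁) := Module.nontrivial_of_finrank_pos (R := L) (hdimT ▸ hq)
  obtain ⟨Q, hQ⟩ := Ideal.exists_maximal (L ⊗[K] K₁)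
  letI := Ideal.Quotient.field Q
  haveI : FiniteDimensional L ((L ⊗[K] K₁) ⧸ Q) :=
    Module.Finite.of_surjective (Ideal.Quotient.mkₐ L Q).toLinearMap Ideal.Quotient.mk_surjective
  have hle : Module.finrank L ((L ⊗[K] K₁) ⧸ Q) ≤ q :=
    hdimT ▸ LinearMap.finrank_le_finrank_of_surjective (f := (Ideal.Quotient.mkₐ L Q).toLinearMap)
      Ideal.Quotient.mk_surjective
  haveI : IsScalarTower B L ((L ⊗[K] K₁) ⧸ Q) := inferInstance
  have heq := finrank_eq_of_root (K := L) hπB hq
    (fun W hW => hlev.pow_eq _ ((compat_includeRight (Ideal.Quotient.mk Q)).trans rfl) hW) hle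
  have hinjQ : Function.Injective (Ideal.Quotient.mkₐ L Q).toLinearMap :=
    (LinearMap.injective_iff_surjective_of_finrank_eq_finrank (f := (Ideal.Quotient.mkₐ L Q).toLinearMap)
      (by rw [hdimT]; exact heq.symm)).2 Ideal.Quotient.mk_surjective
  exact MulEquiv.isField (Field.toIsField ((L ⊗[K] K₁) ⧸ Q))
    (RingEquiv.ofBijective (Ideal.Quotient.mk Q) ⟨hinjQ, Ideal.Quotient.mk_surjective⟩).toMulEquiv

/-- The field `L ⊗ K₁`. -/
@[reducible] noncomputable def levelField : Field (L ⊗[K] K₁) :=
  (isField_level (L := L) hπB hq hlev hK₁).toField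

/-- Facts on the places of a field generated by a level. -/
theorem level_places {F : Type u} [Field F] [Algebra L F] [Algebra B F] [IsScalarTower B L F] [FiniteDimensional L F]
    (f : K₁ →+* F) (hf : f.comp (algebraMap K K₁) = (algebraMap L F).comp (algebraMap K L))
    (hπB : maximalIdeal B = Ideal.span {algebraMap A B π}) (hq : 0 < q) (hlev : IsLevel A K π π₁ q)
    (hdeg : Module.finrank L F ≤ q) :
    ∃ V : ValuationSubring F, EtRam.Dominates B (algebraMap B F) V ∧ IsDiscreteValuationRing V ∧
      (∀ V', EtRam.Dominates B (algebraMap B F) V' → V' = V) ∧ V.valuation (f π₁) < 1 ∧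
      (∀ x, V.valuation x < 1 → ∃ y ∈ V, x = f π₁ * y) ∧
      (∀ x ∈ V, ∃ b : B, V.valuation (x - algebraMap B F b) < 1) := by
  have ht : ∀ W, EtRam.Dominates B (algebraMap B F) W →
      W.valuation (f π₁) ^ q = W.valuation (algebraMap B F (algebraMap A B π)) := fun W hW => hlev.pow_eq f hf hW
  have htr := isTotallyRamified_of_root (K := L) hπB hq ht hdeg
  obtain ⟨V, hV⟩ := htr.1
  have h1 : V.valuation (f π₁) < 1 := by
    by_contra hc
    exact not_lt.2 (ht V hV ▸ one_le_pow₀ (not_lt.1 hc)) (hV.2 _ (hπB ▸ Ideal.mem_span_singleton_self _))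
  refine ⟨V, hV, EtRam46.isDVR_of_finite L (by rwa [← IsScalarTower.algebraMap_eq B L F]),
    fun V' hV' => htr.2.1 V' V hV' hV, h1, fun x hx => exists_eq_mul_root (K := L) hπB hq ht hdeg hV hx,
    fun x hx => ?_⟩
  obtain ⟨b, hb⟩ := htr.2.2 V hV (residue V ⟨x, hx⟩)
  exact ⟨b, (V.valuation_lt_one_iff _).1 (Ideal.Quotient.eq.1 hb.symm)⟩

end Groth.Agent.EtRam93
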