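import Groth.Agent.EtRam93.GalStep.Reduce
import Mathlib

/-!
# Weak solutions for a Galois step of degree `p` in characteristic `p`
-/

set_option autoImplicit false
set_option linter.style.haveILetI false
set_option linter.unusedSectionVars false

universe u

open IsLocalRing Polynomial TensorProduct

namespace Groth.Agent.EtRam93

/-- An Artin-Schreier generator of a Galois extension of degree `p` in characteristic `p`. -/
theorem exists_artinSchreier_generator (L M : Type u) [Field L] [Field M] [Algebra L M] (p : ℕ) (hp : p.Prime)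
    [CharP L p] [IsGalois L M] (hdeg : Module.finrank L M = p) :
    ∃ (ξ : L) (z : M), z ^ p - z = algebraMap L M ξ ∧ IntermediateField.adjoin L ({z} : Set M) = ⊤ := by
  classical
  haveI := Fact.mk hp
  haveI : FiniteDimensional L M := Module.finite_of_finrank_pos (hdeg ▸ hp.pos)
  haveI : CharP M p := charP_of_injective_algebraMap (algebraMap L M).injective p
  have hcard : Nat.card Gal(M/L) = p := (IsGalois.card_aut_eq_finrank L M).trans hdeg
  haveI : Nontrivial Gal(M/L) := Finite.one_lt_card_iff_nontrivial.1 (hcard ▸ hp.one_lt)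
  obtain ⟨σ, hσ⟩ := exists_ne (1 : Gal(M/L))
  have hfix : ∀ y : M, σ y = y → ∃ l : L, algebraMap L M l = y := fun y hy => by
    have h : ∀ τ : Gal(M/L), τ y = y := fun τ => by
      have hτ : τ ∈ Subgroup.zpowers σ := mem_zpowers_of_prime_card hcard hσ
      have : τ ∈ MulAction.stabilizer Gal(M/L) y :=
        (Subgroup.zpowers_le.2 (show σ ∈ MulAction.stabilizer Gal(M/L) y from hy)) hτ
      exact this
    obtain ⟨l, hl⟩ := (IsGalois.mem_range_algebraMap_iff_fixed y).2 h
    exact ⟨l, hl⟩
  have hσp : ∀ x : M, (σ ^ p) x = x := fun x => by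
    rw [← hcard, pow_card_eq_one']; rfl
  let s : Module.End L M := σ.toLinearMap
  have hpow : ∀ (k : ℕ) (x : M), (s ^ k) x = (σ ^ k) x := by
    intro k
    induction k with
    | zero => intro x; rfl
    | succ k ih => intro x; rw [pow_succ, pow_succ, Module.End.mul_apply, AlgEquiv.mul_apply, ih]; rfl
  haveI : CharP (Module.End L M) p :=
    charP_of_injective_algebraMap (algebraMap L (Module.End L M)).injective p
  set D : Module.End L M := s - 1 with hD
  have hDp : D ^ p = 0 := by
    rw [hD, sub_pow_char_of_commute (p := p) (h := Commute.one_right s), one_pow, sub_eq_zero]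
    exact LinearMap.ext fun x => (hpow p x).trans (hσp x)
  have hD0 : D ≠ 0 := fun h => hσ (AlgEquiv.ext fun x => by
    have h1 := LinearMap.congr_fun h x
    rw [hD, LinearMap.sub_apply, LinearMap.zero_apply, sub_eq_zero] at h1
    exact h1)
  have hex : ∃ k, D ^ k = 0 := ⟨p, hDp⟩
  obtain ⟨k, hk, hkmin⟩ : ∃ k, D ^ (k + 2) = 0 ∧ D ^ (k + 1) ≠ 0 := by
    have h2 : 2 ≤ Nat.find hex := by
      by_contra hc
      have h1 := Nat.find_spec hex
      interval_cases h : Nat.find hex
      · exact one_ne_zero ((pow_zero D).symm.trans h1)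
      · exact hD0 ((pow_one D).symm.trans h1)
    obtain ⟨k, hk⟩ := Nat.exists_eq_add_of_le h2
    exact ⟨k, by rw [add_comm, ← hk]; exact Nat.find_spec hex, Nat.find_min hex (by omega)⟩
  obtain ⟨x', hx'⟩ : ∃ x', (D ^ (k + 1)) x' ≠ 0 := by
    by_contra hc
    push Not at hc
    exact hkmin (LinearMap.ext fun x => by rw [hc x]; rfl)
  set x := (D ^ k) x' with hx
  have hDx : D x ≠ 0 := by rwa [hx, ← Module.End.mul_apply, ← pow_succ']
  have hDDx : D (D x) = 0 := by
    rw [hx, ← Module.End.mul_apply, ← Module.End.mul_apply, mul_assoc, ← pow_succ', ← pow_succ', hk, LinearMap.zero_apply]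
  have hDapp : ∀ w, D w = σ w - w := fun w => rfl
  have hy : σ (D x) = D x := by
    rw [hDapp (D x), sub_eq_zero] at hDDx
    exact hDDx
  obtain ⟨l, hl⟩ := hfix _ hy
  set z := x / D x with hz
  have hσz : σ z = z + 1 := by
    rw [hz, map_div₀, hy, div_add_one hDx]
    congr 1
    rw [hDapp x]; ring
  obtain ⟨ξ, hξ⟩ := hfix (z ^ p - z) (by
    rw [map_sub, map_pow, hσz, add_pow_char, one_pow]; ring)
  refine ⟨ξ, z, hξ.symm, ?_⟩
  haveI := IntermediateField.isSimpleOrder_of_finrank_prime L M (hdeg ▸ hp)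
  rcases eq_bot_or_eq_top (IntermediateField.adjoin L ({z} : Set M)) with h | h
  · exfalso
    obtain ⟨l', hl'⟩ := IntermediateField.mem_bot.1 (h ▸ IntermediateField.mem_adjoin_simple_self L z)
    rw [← hl', AlgEquiv.commutes, left_eq_add] at hσz
    exact one_ne_zero hσz
  · exact h

theorem galois_step (p : ℕ) (hp : p.Prime) (A B C K L M : Type u)
    [CommRing A] [IsDomain A] [IsDiscreteValuationRing A] [CommRing B] [IsDomain B] [IsDiscreteValuationRing B]
    [CommRing C] [IsDomain C] [IsDiscreteValuationRing C]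
    [Algebra A B] [Algebra B C] [Algebra A C] [IsScalarTower A B C]
    [IsLocalHom (algebraMap A B)] [IsLocalHom (algebraMap B C)]
    [Field K] [Field L] [Field M] [Algebra A K] [IsFractionRing A K] [Algebra B L] [IsFractionRing B L]
    [Algebra C M] [IsFractionRing C M] [Algebra K L] [Algebra L M] [Algebra K M] [IsScalarTower K L M]
    [Algebra A L] [IsScalarTower A K L] [IsScalarTower A B L] [Algebra B M] [IsScalarTower B L M] [IsScalarTower B C M]
    (hw : EtRam.IsWeaklyUnramified A B) [CharP K p] [IsGalois L M] (hdeg : Module.finrank L M = p)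
    (hk : ∀ x : IsLocalRing.ResidueField B, (∀ n : ℕ, ∃ y : IsLocalRing.ResidueField B, y ^ (p ^ n) = x) ↔
      x ∈ Set.range (algebraMap (IsLocalRing.ResidueField A) (IsLocalRing.ResidueField B))) :
    ∃ (K₁ : Type u) (_ : Field K₁) (_ : Algebra K K₁), FiniteDimensional K K₁ ∧ Algebra.IsSeparable K K₁ ∧
      EtRam.IsTotallyRamified A ((algebraMap K K₁).comp (algebraMap A K)) ∧ EtRam.IsWeakSolution C K M K₁ := by
  classical
  haveI := Fact.mk hp
  haveI : CharP L p := charP_of_injective_algebraMap (algebraMap K L).injective p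
  haveI : CharP B p := (RingHom.charP_iff _ (IsFractionRing.injective B L) p).2 inferInstance
  haveI : CharP (ResidueField B) p := (CharP.charP_iff_prime_eq_zero hp).2 (by
    rw [← map_natCast (residue B), CharP.cast_eq_zero, map_zero])
  haveI : CharP (ResidueField A) p :=
    (RingHom.charP_iff _ (algebraMap (ResidueField A) (ResidueField B)).injective p).2 inferInstance
  obtain ⟨π, hπirr⟩ := IsDiscreteValuationRing.exists_irreducible A
  have hπ : maximalIdeal A = Ideal.span {π} := hπirr.maximalIdeal_eq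
  set πB := algebraMap A B π with hπBdef
  have hπB : maximalIdeal B = Ideal.span {πB} := by
    rw [← hw, hπ, Ideal.map_span, Set.image_singleton]
  have hresB : ∀ x : B, πB ∣ x ↔ residue B x = 0 := fun x => by
    rw [residue_eq_zero_iff, hπB, Ideal.mem_span_singleton]
  have hb : AbsorbBase A B p π := by
    refine ⟨hπ, hπB, fun a => ?_, fun b hb => ?_⟩
    · obtain ⟨y, hy⟩ := ((hk _).2 ⟨residue A a, rfl⟩) 1
      rw [pow_one] at hy
      obtain ⟨α, hα⟩ := (hk y).1 fun n => by
        obtain ⟨y', hy'⟩ := ((hk _).2 ⟨residue A a, rfl⟩) (n + 1)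
        exact ⟨y', frobenius_inj (ResidueField B) p (by
          simp only [frobenius_def]
          rw [← pow_mul, ← pow_succ, hy', hy])⟩
      obtain ⟨a', rfl⟩ := residue_surjective α
      refine ⟨a', ?_⟩
      have h1 : residue A a = residue A a' ^ p := (algebraMap (ResidueField A) (ResidueField B)).injective (by
        rw [map_pow, hα, hy])
      rw [← Ideal.mem_span_singleton, ← hπ, ← residue_eq_zero_iff, map_sub, map_pow, h1, sub_self]
    · obtain ⟨α, hα⟩ := (hk (residue B b)).1 fun n => by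
        obtain ⟨y, hy⟩ := hb n
        refine ⟨residue B y, ?_⟩
        rw [hresB, map_sub, map_pow, sub_eq_zero] at hy
        exact hy.symm
      obtain ⟨a, rfl⟩ := residue_surjective α
      refine ⟨a, (hresB _).2 ?_⟩
      rw [map_sub, ← hα]
      exact sub_self _
  obtain ⟨ξ, z, hzξ, hzgen⟩ := exists_artinSchreier_generator L M p hp hdeg
  obtain ⟨q, K₁, _, _, π₁, hq, hK₁, hsep, hlev, hgood⟩ := exists_goodLevel (K := K) hb ξ
  haveI : FiniteDimensional K K₁ := Module.finite_of_finrank_pos (hK₁ ▸ hq)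
  haveI := hsep
  refine ⟨K₁, inferInstance, inferInstance, inferInstance, inferInstance, ?_, ?_⟩
  · letI : Algebra A K₁ := ((algebraMap K K₁).comp (algebraMap A K)).toAlgebra
    haveI : IsScalarTower A K K₁ := IsScalarTower.of_algebraMap_eq fun _ => rfl
    exact isTotallyRamified_of_root (K := K) hπ hq (fun W hW => hlev W hW) hK₁.le
  -- the field `L ⊗ K₁`
  letI : Field (L ⊗[K] K₁) := levelField (L := L) hb.hπB hq hlev hK₁
  haveI : IsScalarTower B L (L ⊗[K] K₁) := inferInstance
  let f₁ : K₁ →+* L ⊗[K] K₁ := (Algebra.TensorProduct.includeRight : K₁ →ₐ[K] L ⊗[K] K₁).toRingHom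
  have hf₁ : f₁.comp (algebraMap K K₁) = (algebraMap L (L ⊗[K] K₁)).comp (algebraMap K L) :=
    (compat_includeRight (RingHom.id (L ⊗[K] K₁))).trans rfl
  have hdimT : Module.finrank L (L ⊗[K] K₁) = q :=
    (Module.finrank_baseChange (R := L) (S := K) (M' := K₁)).trans hK₁
  obtain ⟨V, hV, hVdvr, huniq, htlt, hmV, hres⟩ := level_places f₁ hf₁ hb.hπB hq hlev hdimT.le
  haveI := hVdvr
  haveI : CharP (L ⊗[K] K₁) p := charP_of_injective_algebraMap (algebraMap L (L ⊗[K] K₁)).injective p
  haveI : CharP V p := (RingHom.charP_iff V.subtype Subtype.val_injective p).2 inferInstance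
  haveI : CharP (ResidueField V) p := (CharP.charP_iff_prime_eq_zero hp).2 (by
    rw [← map_natCast (residue V), CharP.cast_eq_zero, map_zero])
  let πV : V := ⟨f₁ π₁, (V.valuation_le_one_iff _).1 htlt.le⟩
  have hmV' : maximalIdeal V = Ideal.span {πV} := by
    refine le_antisymm (fun x hx => ?_) ((Ideal.span_singleton_le_iff_mem _).2 ((V.valuation_lt_one_iff πV).2 htlt))
    obtain ⟨y, hy, hxy⟩ := hmV _ ((V.valuation_lt_one_iff x).1 hx)
    exact Ideal.mem_span_singleton'.2 ⟨⟨y, hy⟩, Subtype.ext ((mul_comm _ _).trans hxy.symm)⟩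
  obtain ⟨c, hc⟩ := hgood (L ⊗[K] K₁) f₁ hf₁
  intro M₂ _ _ _ _ _ _ hgen W hW
  letI : Algebra L M₂ := ((algebraMap M M₂).comp (algebraMap L M)).toAlgebra
  haveI : IsScalarTower L M M₂ := IsScalarTower.of_algebraMap_eq fun _ => rfl
  haveI : IsScalarTower K L M₂ := IsScalarTower.of_algebraMap_eq fun x => by
    rw [IsScalarTower.algebraMap_apply K M M₂, IsScalarTower.algebraMap_apply K L M,
      ← IsScalarTower.algebraMap_apply L M M₂]
  letI : Algebra B M₂ := ((algebraMap L M₂).comp (algebraMap B L)).toAlgebra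
  haveI : IsScalarTower B L M₂ := IsScalarTower.of_algebraMap_eq fun _ => rfl
  have hBM : ∀ x : B, algebraMap B M₂ x = algebraMap M M₂ (algebraMap B M x) := fun x => by
    rw [IsScalarTower.algebraMap_apply B L M₂, IsScalarTower.algebraMap_apply B L M,
      ← IsScalarTower.algebraMap_apply L M M₂]
  have hWB : EtRam.Dominates B (algebraMap B M₂) W := by
    refine ⟨fun x => ?_, fun x hx => ?_⟩
    · rw [hBM, IsScalarTower.algebraMap_apply B C M]; exact hW.1 _
    · rw [hBM, IsScalarTower.algebraMap_apply B C M]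
      exact hW.2 _ ((mem_maximalIdeal _).2 fun hu => (mem_maximalIdeal _).1 hx (IsLocalHom.map_nonunit x hu))
  let Φ : L ⊗[K] K₁ →ₐ[L] M₂ :=
    Algebra.TensorProduct.lift (Algebra.ofId L M₂) (IsScalarTower.toAlgHom K K₁ M₂) fun _ _ => Commute.all _ _
  letI : Algebra (L ⊗[K] K₁) M₂ := Φ.toRingHom.toAlgebra
  haveI : IsScalarTower L (L ⊗[K] K₁) M₂ := IsScalarTower.of_algebraMap_eq fun x => (Φ.commutes x).symm
  haveI : FiniteDimensional L M := Module.finite_of_finrank_pos (hdeg ▸ hp.pos)
  let Ψ : M ⊗[K] K₁ →ₐ[M] M₂ :=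
    Algebra.TensorProduct.lift (Algebra.ofId M M₂) (IsScalarTower.toAlgHom K K₁ M₂) fun _ _ => Commute.all _ _
  have hΨ : Function.Surjective Ψ := by
    rw [← AlgHom.range_eq_top, eq_top_iff, ← hgen]
    refine Algebra.adjoin_le ?_
    rintro _ ⟨x, rfl⟩
    exact ⟨1 ⊗ₜ x, by simp [Ψ]⟩
  haveI : FiniteDimensional M M₂ := Module.Finite.of_surjective Ψ.toLinearMap hΨ
  haveI : FiniteDimensional L M₂ := Module.Finite.trans M M₂
  haveI : FiniteDimensional (L ⊗[K] K₁) M₂ := Module.Finite.of_restrictScalars_finite L _ M₂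
  let g := algebraMap (L ⊗[K] K₁) M₂
  have hgf : ∀ x, g (f₁ x) = algebraMap K₁ M₂ x := fun x => by
    show Φ ((1 : L) ⊗ₜ[K] x) = _
    simp [Φ]
  have hgL : ∀ x : L, g (algebraMap L (L ⊗[K] K₁) x) = algebraMap L M₂ x := fun x => Φ.commutes x
  haveI : CharP M₂ p := charP_of_injective_algebraMap g.injective p
  set z' : M₂ := algebraMap M M₂ z + g c with hz'def
  set X₁ := algebraMap L (L ⊗[K] K₁) ξ + (c ^ p - c) with hX₁
  have hz' : z' ^ p - z' = g X₁ := by
    rw [hz'def, hX₁, add_pow_char, map_add, map_sub, map_pow, hgL, IsScalarTower.algebraMap_apply L M M₂, ← hzξ,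
      map_sub, map_pow]
    ring
  have hgen' : IntermediateField.adjoin (L ⊗[K] K₁) ({z'} : Set M₂) = ⊤ := by
    set E := IntermediateField.adjoin (L ⊗[K] K₁) ({z'} : Set M₂)
    have hzE : algebraMap M M₂ z ∈ E := by
      have h1 := sub_mem (IntermediateField.mem_adjoin_simple_self (L ⊗[K] K₁) z') (E.algebraMap_mem c)
      rwa [hz'def, add_sub_cancel_right] at h1
    have hM : ∀ x : M, algebraMap M M₂ x ∈ E := fun x => by
      let E' : IntermediateField L M := (E.toSubfield.comap (algebraMap M M₂)).toIntermediateField fun l => by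
        show algebraMap M M₂ (algebraMap L M l) ∈ E
        rw [← IsScalarTower.algebraMap_apply, ← hgL]
        exact E.algebraMap_mem _
      have h1 : IntermediateField.adjoin L ({z} : Set M) ≤ E' :=
        IntermediateField.adjoin_le_iff.2 (Set.singleton_subset_iff.2 hzE)
      exact h1 (hzgen ▸ IntermediateField.mem_top : x ∈ IntermediateField.adjoin L ({z} : Set M))
    refine eq_top_iff.2 fun x _ => ?_
    have hx : x ∈ Algebra.adjoin M (Set.range (algebraMap K₁ M₂)) := hgen ▸ Algebra.mem_top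
    induction hx using Algebra.adjoin_induction with
    | mem x hx => obtain ⟨y, rfl⟩ := hx; rw [← hgf]; exact E.algebraMap_mem _
    | algebraMap r => exact hM r
    | add x y _ _ hx hy => exact E.add_mem (hx trivial) (hy trivial)
    | mul x y _ _ hx hy => exact E.mul_mem (hx trivial) (hy trivial)
  have hdeg2 : Module.finrank (L ⊗[K] K₁) M₂ ≤ p := as_finrank_le hp hz' hgen'
  -- the places
  have hBg : ∀ x, g (algebraMap B (L ⊗[K] K₁) x) = algebraMap B M₂ x := fun x => hgL (algebraMap B L x)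
  have hu : W.comap g = V := huniq _ ⟨fun x => show g _ ∈ W by rw [hBg]; exact hWB.1 x, fun x hx =>
    (EtRam46.comap_lt_one_iff (W := W) (f := g) _).2 (by rw [hBg]; exact hWB.2 x hx)⟩
  letI : Algebra V M₂ := (g.comp V.subtype).toAlgebra
  haveI : IsScalarTower V (L ⊗[K] K₁) M₂ := IsScalarTower.of_algebraMap_eq fun _ => rfl
  have hWV : EtRam.Dominates V (algebraMap V M₂) W := by
    refine ⟨fun x => (SetLike.ext_iff.1 hu (x : L ⊗[K] K₁)).2 x.2, fun x hx => ?_⟩
    have h3 := (V.valuation_lt_one_iff x).1 hx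
    show W.valuation (g (x : L ⊗[K] K₁)) < 1
    generalize (x : L ⊗[K] K₁) = x₀ at h3 ⊢
    rw [← hu, EtRam46.comap_lt_one_iff] at h3
    exact h3
  let ι : V →+* W := (algebraMap V M₂).codRestrict W hWV.1
  haveI hιloc : IsLocalHom ι := ⟨fun x hx => by
    by_contra hc
    have h1 := hWV.2 x ((mem_maximalIdeal _).2 hc)
    exact (mem_maximalIdeal _).1 ((W.valuation_lt_one_iff (ι x)).2 h1) hx⟩
  have hPV : (X ^ p - X : V[X]).Monic := monic_X_pow_sub (degree_X.trans_lt (by exact_mod_cast hp.one_lt))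
  have hPd : (X ^ p - X : V[X]).natDegree = p := natDegree_eq_of_degree_eq_some (by
    rw [degree_sub_eq_left_of_degree_lt] <;> rw [degree_X_pow]
    rw [degree_X]; exact_mod_cast hp.one_lt)
  have hPz : aeval z' (X ^ p - X : V[X]) = g X₁ := by
    simp only [map_sub, map_pow, aeval_X, hz']
  have hwu : (maximalIdeal V).map ι = maximalIdeal W := by
    rcases hc with hc | ⟨N, b, hN, hpN, hbn, hc⟩
    · have hX : X₁ ∈ V := (V.valuation_le_one_iff _).1 (hc V hV)
      have h1 := isUnramifiedExt_of_integral (A := V) (K := L ⊗[K] K₁) (L := M₂) hPV hp hPd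
        (by simp) hgen' (a := ⟨X₁, hX⟩) (by rw [hPz]; rfl) W hWV
      letI : Algebra V W := ι.toAlgebra
      haveI : IsLocalHom (algebraMap V W) := hιloc
      exact h1.1
    · have hY := hc V hV
      have hmemY : X₁ * f₁ π₁ ^ N ∈ V := by
        have h1 := V.toSubring.add_mem (EtRam46.mem_of_lt hY) (hV.1 b)
        rwa [sub_add_cancel] at h1
      have hres2 : ∀ r : V, residue V ⟨_, hmemY⟩ ≠ residue V r ^ p := by
        intro r hr
        obtain ⟨β, hβ⟩ := hres (r : L ⊗[K] K₁) r.2
        refine hbn β ((dvd_iff_val hπB hV _).2 ?_)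
        rw [← map_pow (residue V) r p] at hr
        have h1 : V.valuation (X₁ * f₁ π₁ ^ N - (r : L ⊗[K] K₁) ^ p) < 1 :=
          (V.valuation_lt_one_iff _).1 (Ideal.Quotient.eq.1 hr)
        rw [map_sub, map_pow, show algebraMap B (L ⊗[K] K₁) b - algebraMap B (L ⊗[K] K₁) β ^ p =
          (X₁ * f₁ π₁ ^ N - (r : L ⊗[K] K₁) ^ p) - (X₁ * f₁ π₁ ^ N - algebraMap B (L ⊗[K] K₁) b) +
            ((r : L ⊗[K] K₁) ^ p - algebraMap B (L ⊗[K] K₁) β ^ p) by ring]
        exact (Valuation.map_add _ _ _).trans_lt (max_lt ((Valuation.map_sub _ _ _).trans_lt (max_lt h1 hY))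
          (pow_sub_pow_lt r.2 (hV.1 β) hβ p))
      have h1 := (inseparable_of_pole (K := L ⊗[K] K₁) (L := M₂) hPV hp hPd hmV' hdeg2 hN hpN hres2 (z := z') (by
        rw [hPz, IsScalarTower.algebraMap_apply V (L ⊗[K] K₁) M₂, IsScalarTower.algebraMap_apply V (L ⊗[K] K₁) M₂,
          ← map_pow, ← map_mul]
        rfl)).2.2.2 W hWV
      letI : Algebra V W := ι.toAlgebra
      haveI : IsLocalHom (algebraMap V W) := hιloc
      exact h1.1
  letI : Algebra (W.comap (algebraMap K₁ M₂)) W := (EtRam.inclOfComap W (algebraMap K₁ M₂)).toAlgebra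
  show (maximalIdeal (W.comap (algebraMap K₁ M₂))).map (EtRam.inclOfComap W (algebraMap K₁ M₂)) = maximalIdeal W
  refine le_antisymm (Ideal.map_le_iff_le_comap.2 fun x hx => (mem_maximalIdeal _).2 fun hu =>
    (mem_maximalIdeal _).1 hx (IsLocalHom.map_nonunit x hu)) ?_
  rw [← hwu, hmV', Ideal.map_span, Set.image_singleton, Ideal.span_singleton_le_iff_mem]
  have ht1 : W.valuation (algebraMap K₁ M₂ π₁) < 1 := by
    rw [← hgf]
    exact hWV.2 πV ((V.valuation_lt_one_iff _).2 htlt)
  rw [show ι πV = EtRam.inclOfComap W (algebraMap K₁ M₂) ⟨π₁, (W.valuation_le_one_iff _).1 ht1.le⟩ from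
    Subtype.ext (hgf π₁)]
  exact Ideal.mem_map_of_mem _ ((ValuationSubring.valuation_lt_one_iff _ _).2
    ((EtRam46.comap_lt_one_iff (W := W) (f := algebraMap K₁ M₂) _).2 ht1))

end Groth.Agent.EtRam93
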