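import Groth.Agent.EtRam93.GalStep.Level
import Groth.Agent.EtRam93.GalStep.Descend
import Groth.Agent.EtRam93.DegPow
import Mathlib

/-!
# Absorbing the part of an Artin-Schreier right hand side coming from the base: statements
-/

set_option autoImplicit false
set_option linter.style.haveILetI false
set_option linter.unusedSectionVars false

universe u

open IsLocalRing

namespace Groth.Agent.EtRam93

/-- After changing `X` by `c ^ p - c`, either it is integral, or it has a pole of order divisible by `p` whose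
leading residue is not a `p`th power. -/
def OutIn {B F : Type u} [CommRing B] [IsLocalRing B] [Field F] [Algebra B F] (πB : B) (p : ℕ) (X t : F) : Prop :=
  ∃ c : F, (∀ V, EtRam.Dominates B (algebraMap B F) V → V.valuation (X + (c ^ p - c)) ≤ 1) ∨
    ∃ (N : ℕ) (b : B), 0 < N ∧ p ∣ N ∧ NotPthMod πB p b ∧ ∀ V, EtRam.Dominates B (algebraMap B F) V →
      V.valuation ((X + (c ^ p - c)) * t ^ N - algebraMap B F b) < 1

theorem OutIn.shift {B F : Type u} [CommRing B] [IsLocalRing B] [Field F] [Algebra B F] {πB : B} {p : ℕ}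
    [Fact p.Prime] [CharP F p] {X X' t : F} (h : OutIn πB p X t) (d : F) (hX : X = X' + (d ^ p - d)) :
    OutIn πB p X' t := by
  obtain ⟨c, hc⟩ := h
  refine ⟨c + d, ?_⟩
  rwa [show X' + ((c + d) ^ p - (c + d)) = X + (c ^ p - c) by rw [hX, wp_add]; ring]

variable (A B K L : Type u) [CommRing A] [IsDomain A] [IsDiscreteValuationRing A]
  [CommRing B] [IsDomain B] [IsDiscreteValuationRing B] [Algebra A B] [IsLocalHom (algebraMap A B)]
  [Field K] [Algebra A K] [IsFractionRing A K] [Field L] [Algebra B L] [IsFractionRing B L]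
  [Algebra K L] [Algebra A L] [IsScalarTower A K L] [IsScalarTower A B L]

/-- The conclusion: a level `K₁` and `η ∈ K₁` making `ξ - η` good in every field over `L` and `K₁`. -/
def Absorbs (p : ℕ) (π : A) (ξ : L) : Prop :=
  ∃ (q : ℕ) (K₁ : Type u) (_ : Field K₁) (_ : Algebra K K₁) (π₁ η : K₁),
    0 < q ∧ Module.finrank K K₁ = q ∧ Algebra.IsSeparable K K₁ ∧ IsLevel A K π π₁ q ∧
    ∀ (F : Type u) [Field F] [Algebra L F] [Algebra B F] [IsScalarTower B L F] (f : K₁ →+* F),
      f.comp (algebraMap K K₁) = (algebraMap L F).comp (algebraMap K L) →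
      OutIn (algebraMap A B π) p (algebraMap L F ξ - f η) (f π₁)

/-- The hypotheses on the base. -/
structure AbsorbBase (p : ℕ) (π : A) : Prop where
  hπ : maximalIdeal A = Ideal.span {π}
  hπB : maximalIdeal B = Ideal.span {algebraMap A B π}
  hperf : ∀ a : A, ∃ a' : A, π ∣ a - a' ^ p
  hinf : ∀ b : B, (∀ k, ∃ y : B, algebraMap A B π ∣ b - y ^ p ^ k) → ∃ a : A, algebraMap A B π ∣ b - algebraMap A B a

variable {A B K L}
variable {p : ℕ} [Fact p.Prime] [CharP L p] {π : A}

theorem Absorbs.shift_K {ξ : L} (η₀ : K) (h : Absorbs A B K L p π (ξ - algebraMap K L η₀)) :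
    Absorbs A B K L p π ξ := by
  obtain ⟨q, K₁, _, _, π₁, η, hq, hK₁, hsep, hlev, h⟩ := h
  refine ⟨q, K₁, inferInstance, inferInstance, π₁, η + algebraMap K K₁ η₀, hq, hK₁, hsep, hlev,
    fun F _ _ _ _ f hf => ?_⟩
  have h' := h F f hf
  have e : f (algebraMap K K₁ η₀) = algebraMap L F (algebraMap K L η₀) := RingHom.congr_fun hf η₀
  rwa [map_sub, sub_sub, ← e, add_comm (f _) (f η), ← map_add] at h'

theorem Absorbs.shift_wp {ξ ξ' : L} (d : L) (hξ : ξ = ξ' + (d ^ p - d)) (h : Absorbs A B K L p π ξ) :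
    Absorbs A B K L p π ξ' := by
  obtain ⟨q, K₁, _, _, π₁, η, hq, hK₁, hsep, hlev, h⟩ := h
  refine ⟨q, K₁, inferInstance, inferInstance, π₁, η, hq, hK₁, hsep, hlev, fun F _ _ _ _ f hf => ?_⟩
  haveI : CharP F p := charP_of_injective_algebraMap (algebraMap L F).injective p
  exact (h F f hf).shift (algebraMap L F d) (by rw [hξ, map_add, map_sub, map_pow]; ring)

/-- The trivial level. -/
theorem Absorbs.of_base (hb : AbsorbBase A B p π) {ξ : L}
    (h : ∀ (F : Type u) [Field F] [Algebra L F] [Algebra B F] [IsScalarTower B L F],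
      OutIn (algebraMap A B π) p (algebraMap L F ξ) (algebraMap L F (algebraMap A L π))) :
    Absorbs A B K L p π ξ := by
  refine ⟨1, K, inferInstance, inferInstance, algebraMap A K π, 0, one_pos, Module.finrank_self K,
    inferInstance, fun V _ => pow_one _, fun F _ _ _ _ f hf => ?_⟩
  rw [map_zero, sub_zero, show f (algebraMap A K π) = algebraMap L F (algebraMap A L π) by
    rw [IsScalarTower.algebraMap_apply A K L]; exact RingHom.congr_fun hf _]
  exact h F

theorem rootData_of_rel {K₁ F R : Type u} [Field K₁] [Field F] [CommRing R] [Algebra R F] [Algebra A K₁]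
    (g : A →+* R) (f : K₁ →+* F) (hR : ∀ a, f (algebraMap A K₁ a) = algebraMap R F (g a))
    (W : ValuationSubring F) (hmem : ∀ r, algebraMap R F r ∈ W)
    (hlt : W.valuation (algebraMap R F (g π)) < 1) (hne : algebraMap R F (g π) ≠ 0) {π₁ b : K₁} {n : ℕ}
    (hb : b ∈ integralClosure A K₁) (hrel : π₁ ^ p = algebraMap A K₁ π + algebraMap A K₁ π ^ (n + 2) * b) :
    ∃ w, RootData W p (g π) (f π₁) w n := by
  have hbW : f b ∈ W := by
    let gW : A →+* W := ((algebraMap R F).comp g).codRestrict W fun a => hmem _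
    letI := gW.toAlgebra
    letI : Algebra A F := ((algebraMap R F).comp g).toAlgebra
    haveI : IsScalarTower A W F := IsScalarTower.of_algebraMap_eq fun _ => rfl
    let f' : K₁ →ₐ[A] F := { toRingHom := f, commutes' := hR }
    obtain ⟨z, hz⟩ := IsIntegrallyClosed.isIntegral_iff.1 (((hb : IsIntegral A b).map f').tower_top (A := W))
    rw [show f b = f' b from rfl, ← hz]
    exact z.2
  have hsmall : W.valuation (algebraMap R F (g π) ^ (n + 1) * f b) ≤ W.valuation (algebraMap R F (g π)) ^ (n + 1) := by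
    rw [map_mul, map_pow]
    exact mul_le_of_le_one_right' ((W.valuation_le_one_iff _).2 hbW)
  refine ⟨1 + algebraMap R F (g π) ^ (n + 1) * f b, hmem, ?_, hne, hlt, ?_, ?_⟩
  · rw [← map_pow, hrel, map_add, map_mul, map_pow, hR]; ring
  · rw [Valuation.map_add_eq_of_lt_left, map_one]
    rw [map_one]
    exact hsmall.trans_lt (pow_lt_one₀ zero_le hlt n.succ_ne_zero)
  · rw [sub_add_cancel_left, Valuation.map_neg]
    exact hsmall

end Groth.Agent.EtRam93
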