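import Groth.Agent.EtRam93.GalStep.Absorb
import Groth.Agent.EtRam93.ArtinSchreier
import Mathlib

/-!
# A level where the Artin-Schreier right hand side is integral or has an inseparable pole
-/

set_option autoImplicit false
set_option linter.style.haveILetI false
set_option linter.unusedSectionVars false

universe u

open IsLocalRing Polynomial

namespace Groth.Agent.EtRam93

/-- Over a perfect residue field, after changing `η` by `d ^ p - d`, it is integral or has a pole of order prime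
to `p`. -/
theorem reduce_eta {E : Type u} [Field E] (V : ValuationSubring E) {p : ℕ} [Fact p.Prime] [CharP E p] {t : E}
    (ht : t ≠ 0) (htV : t ∈ V) (hgen : ∀ x, V.valuation x < 1 → ∃ y ∈ V, x = t * y)
    (hperf : ∀ x ∈ V, ∃ r ∈ V, V.valuation (x - r ^ p) < 1) :
    ∀ (m : ℕ) (η : E), η * t ^ m ∈ V → ∃ d : E, η + (d ^ p - d) ∈ V ∨
      ∃ n : ℕ, 0 < n ∧ ¬ p ∣ n ∧ V.valuation ((η + (d ^ p - d)) * t ^ n) = 1 := by
  have hp := (Fact.out : p.Prime)
  intro m
  induction m with
  | zero => exact fun η h => ⟨0, Or.inl (by simpa [zero_pow hp.ne_zero] using h)⟩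
  | succ m ih =>
    intro η h
    rcases lt_or_eq_of_le ((V.valuation_le_one_iff _).2 h) with h1 | h1
    · obtain ⟨y, hy, hxy⟩ := hgen _ h1
      refine ih η ?_
      rwa [show η * t ^ m = y from mul_left_cancel₀ ht (by rw [← hxy, pow_succ]; ring)]
    by_cases hpn : p ∣ m + 1
    swap
    · exact ⟨0, Or.inr ⟨m + 1, m.succ_pos, hpn, by simpa [zero_pow hp.ne_zero] using h1⟩⟩
    obtain ⟨l, hl⟩ := hpn
    have hlm : l ≤ m := by
      have := Nat.mul_le_mul_right l hp.two_le
      omega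
    obtain ⟨r, hr, hxr⟩ := hperf _ h
    obtain ⟨y, hy, hxy⟩ := hgen _ hxr
    let d₀ : E := -(r / t ^ l)
    have hd : (η + (d₀ ^ p - d₀)) * t ^ m = y + r * t ^ (m - l) := by
      have h2 : d₀ ^ p = -(r ^ p / t ^ (m + 1)) := by
        rw [show d₀ = 0 - r / t ^ l by simp [d₀], sub_pow_char, zero_pow hp.ne_zero, zero_sub, div_pow, ← pow_mul,
          mul_comm l p, ← hl]
      rw [h2, show t ^ m = t ^ l * t ^ (m - l) by rw [← pow_add, Nat.add_sub_cancel' hlm]]
      refine mul_left_cancel₀ ht ?_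
      rw [mul_add t y, ← hxy]
      have h3 : t ^ (m + 1) = t * (t ^ l * t ^ (m - l)) := by
        rw [← pow_add, Nat.add_sub_cancel' hlm, pow_succ']
      simp only [d₀]
      rw [h3]
      field_simp
      ring
    obtain ⟨d, hd'⟩ := ih (η + (d₀ ^ p - d₀)) (by rw [hd]; exact add_mem hy (mul_mem hr (pow_mem htV _)))
    refine ⟨d + d₀, ?_⟩
    rwa [show η + ((d + d₀) ^ p - (d + d₀)) = η + (d₀ ^ p - d₀) + (d ^ p - d) by rw [add_pow_char]; ring]

variable (A B K L : Type u) [CommRing A] [IsDomain A] [IsDiscreteValuationRing A]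
  [CommRing B] [IsDomain B] [IsDiscreteValuationRing B] [Algebra A B] [IsLocalHom (algebraMap A B)]
  [Field K] [Algebra A K] [IsFractionRing A K] [Field L] [Algebra B L] [IsFractionRing B L]
  [Algebra K L] [Algebra A L] [IsScalarTower A K L] [IsScalarTower A B L]

/-- In every field over `L` and `K₁`, `ξ` is integral or has an inseparable pole, up to `c ^ p - c`. -/
def GoodLevel (p : ℕ) (π : A) (ξ : L) {K₁ : Type u} [Field K₁] [Algebra K K₁] (π₁ : K₁) : Prop :=
  ∀ (F : Type u) [Field F] [Algebra L F] [Algebra B F] [IsScalarTower B L F] (f : K₁ →+* F),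
    f.comp (algebraMap K K₁) = (algebraMap L F).comp (algebraMap K L) →
    OutIn (algebraMap A B π) p (algebraMap L F ξ) (f π₁)

variable {A B K L}
variable {p : ℕ} [Fact p.Prime] [CharP L p] {π : A}

theorem exists_goodLevel (hb : AbsorbBase A B p π) (ξ : L) :
    ∃ (q : ℕ) (K₁ : Type u) (_ : Field K₁) (_ : Algebra K K₁) (π₁ : K₁),
      0 < q ∧ Module.finrank K K₁ = q ∧ Algebra.IsSeparable K K₁ ∧ IsLevel A K π π₁ q ∧
      GoodLevel A B K L p π ξ π₁ := by
  classical
  have hp := (Fact.out : p.Prime)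
  obtain ⟨x, y, hy, hxy⟩ := IsFractionRing.div_surjective (A := B) ξ
  obtain ⟨n, u, hu⟩ := IsDiscreteValuationRing.eq_unit_mul_pow_irreducible (nonZeroDivisors.ne_zero hy)
    ((IsDiscreteValuationRing.irreducible_iff_uniformizer _).2 hb.hπB)
  obtain ⟨q, K₁, _, _, π₁, η, hq, hK₁, hsep, hlev, hout⟩ :=
    absorb p n A B K L π hb ξ (↑u⁻¹ * x) (by
      rw [← hxy, ← map_pow, show algebraMap A B π ^ n = ↑u⁻¹ * y by rw [hu, Units.inv_mul_cancel_left], map_mul,
        map_mul]
      have hy0 : algebraMap B L y ≠ 0 := IsFractionRing.to_map_ne_zero_of_mem_nonZeroDivisors hy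
      field_simp)
  haveI : FiniteDimensional K K₁ := Module.finite_of_finrank_pos (hK₁ ▸ hq)
  haveI := hsep
  haveI : CharP K p := (RingHom.charP_iff (algebraMap K L) (algebraMap K L).injective p).2 inferInstance
  haveI : CharP K₁ p := charP_of_injective_algebraMap (algebraMap K K₁).injective p
  letI : Algebra A K₁ := ((algebraMap K K₁).comp (algebraMap A K)).toAlgebra
  haveI : IsScalarTower A K K₁ := IsScalarTower.of_algebraMap_eq fun _ => rfl
  have hlev' : ∀ W, EtRam.Dominates A (algebraMap A K₁) W → W.valuation π₁ ^ q = W.valuation (algebraMap A K₁ π) :=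
    fun W hW => hlev W hW
  have htr := isTotallyRamified_of_root (K := K) hb.hπ hq hlev' hK₁.le
  obtain ⟨V, hV⟩ := htr.1
  have hπ₁lt : V.valuation π₁ < 1 := by
    by_contra hc
    exact not_lt.2 (hlev' V hV ▸ one_le_pow₀ (not_lt.1 hc)) (hV.2 π (hb.hπ ▸ Ideal.mem_span_singleton_self _))
  have hπ₁0 : π₁ ≠ 0 := fun h => by
    have h1 := hlev' V hV
    rw [h, map_zero, zero_pow hq.ne'] at h1
    exact (Valuation.ne_zero_iff _).2
      (fun h2 => ((IsDiscreteValuationRing.irreducible_iff_uniformizer π).2 hb.hπ).ne_zero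
        (algebraMap_injective_of_tower A K K₁ (h2.trans (map_zero _).symm))) h1.symm
  have hgen : ∀ x, V.valuation x < 1 → ∃ y ∈ V, x = π₁ * y := fun x hx =>
    exists_eq_mul_root (K := K) hb.hπ hq hlev' hK₁.le hV hx
  have hres : ∀ x ∈ V, ∃ a : A, V.valuation (x - algebraMap A K₁ a) < 1 := fun x hx => by
    obtain ⟨a, ha⟩ := htr.2.2 V hV (residue V ⟨x, hx⟩)
    exact ⟨a, (V.valuation_lt_one_iff _).1 (Ideal.Quotient.eq.1 ha.symm)⟩
  haveI : IsDiscreteValuationRing V := EtRam46.isDVR_of_finite K hV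
  have hπ₁V : π₁ ∈ V := (V.valuation_le_one_iff _).1 hπ₁lt.le
  obtain ⟨m, hm⟩ : ∃ m, η * π₁ ^ m ∈ V := by
    obtain ⟨a, b, hb0, rfl⟩ := IsFractionRing.div_surjective (A := V) η
    have hirr : Irreducible (⟨π₁, hπ₁V⟩ : V) := by
      refine (IsDiscreteValuationRing.irreducible_iff_uniformizer _).2 (le_antisymm (fun x hx => ?_)
        ((Ideal.span_singleton_le_iff_mem _).2 ((V.valuation_lt_one_iff _).2 hπ₁lt)))
      obtain ⟨y, hy, hxy⟩ := hgen _ ((V.valuation_lt_one_iff x).1 hx)
      exact Ideal.mem_span_singleton'.2 ⟨⟨y, hy⟩, Subtype.ext ((mul_comm _ _).trans hxy.symm)⟩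
    obtain ⟨m, w, hw⟩ := IsDiscreteValuationRing.eq_unit_mul_pow_irreducible (nonZeroDivisors.ne_zero hb0) hirr
    refine ⟨m, ?_⟩
    have hb' : (b : K₁) ≠ 0 := IsFractionRing.to_map_ne_zero_of_mem_nonZeroDivisors hb0
    rw [show (algebraMap V K₁ a / algebraMap V K₁ b) * π₁ ^ m =
      ((a * (↑w⁻¹ : V) : V) : K₁) by
        have h1 : (π₁ : K₁) ^ m = ((↑w⁻¹ * b : V) : K₁) := by
          rw [hw, Units.inv_mul_cancel_left]; rfl
        rw [h1]
        show ((a : K₁) / (b : K₁)) * (((↑w⁻¹ : V) : K₁) * (b : K₁)) = (a : K₁) * ((↑w⁻¹ : V) : K₁)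
        field_simp]
    exact (a * (↑w⁻¹ : V) : V).2
  obtain ⟨d, hd⟩ := reduce_eta V hπ₁0 hπ₁V hgen (fun x hx => by
    obtain ⟨a, ha⟩ := hres x hx
    obtain ⟨a', ha'⟩ := hb.hperf a
    refine ⟨algebraMap A K₁ a', hV.1 a', ?_⟩
    rw [show x - algebraMap A K₁ a' ^ p = (x - algebraMap A K₁ a) + algebraMap A K₁ (a - a' ^ p) by
      rw [map_sub, map_pow]; ring]
    exact (Valuation.map_add _ _ _).trans_lt (max_lt ha (hV.2 _ (hb.hπ ▸ Ideal.mem_span_singleton.2 ha')))) m η hm
  -- shift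
  set η' := η + (d ^ p - d) with hη'
  have hout' : ∀ (F : Type u) [Field F] [Algebra L F] [Algebra B F] [IsScalarTower B L F] (f : K₁ →+* F),
      f.comp (algebraMap K K₁) = (algebraMap L F).comp (algebraMap K L) →
      OutIn (algebraMap A B π) p (algebraMap L F ξ - f η') (f π₁) := by
    intro F _ _ _ _ f hf
    haveI : CharP F p := charP_of_injective_algebraMap (algebraMap L F).injective p
    exact (hout F f hf).shift (f d) (by rw [hη', map_add, map_sub, map_pow]; ring)
  -- a place of `F` over `B` restricts to `V`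
  have hcomap : ∀ (F : Type u) [Field F] [Algebra L F] [Algebra B F] [IsScalarTower B L F] (f : K₁ →+* F),
      f.comp (algebraMap K K₁) = (algebraMap L F).comp (algebraMap K L) →
      ∀ U, EtRam.Dominates B (algebraMap B F) U → U.comap f = V := by
    intro F _ _ _ _ f hf U hU
    have hA : ∀ a : A, f (algebraMap A K₁ a) = algebraMap B F (algebraMap A B a) := fun a => by
      show f (algebraMap K K₁ (algebraMap A K a)) = _
      rw [← RingHom.comp_apply, hf, RingHom.comp_apply, ← IsScalarTower.algebraMap_apply A K L,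
        IsScalarTower.algebraMap_apply A B L, ← IsScalarTower.algebraMap_apply B L F]
    refine htr.2.1 _ _ ⟨fun a => show f _ ∈ U by rw [hA]; exact hU.1 _,
      fun a ha => (EtRam46.comap_lt_one_iff (W := U) (f := f) _).2 ?_⟩ hV
    rw [hA]
    exact hU.2 _ ((mem_maximalIdeal _).2 fun hu => (mem_maximalIdeal _).1 ha (IsLocalHom.map_nonunit a hu))
  rcases hd with hd | ⟨n', hn', hpn', hunit⟩
  · refine ⟨q, K₁, inferInstance, inferInstance, π₁, hq, hK₁, hsep, hlev, fun F _ _ _ _ f hf => ?_⟩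
    have hηU : ∀ U, EtRam.Dominates B (algebraMap B F) U → U.valuation (f η') ≤ 1 := fun U hU => by
      have h1 := (V.valuation_le_one_iff _).2 hd
      rw [← hcomap F f hf U hU, EtRam46.comap_le_one_iff] at h1
      exact h1
    have htU : ∀ U, EtRam.Dominates B (algebraMap B F) U → U.valuation (f π₁) < 1 := fun U hU => by
      have h1 := hπ₁lt
      rw [← hcomap F f hf U hU, EtRam46.comap_lt_one_iff] at h1
      exact h1
    obtain ⟨c, hc⟩ := hout' F f hf
    refine ⟨c, ?_⟩
    have e : algebraMap L F ξ + (c ^ p - c) = (algebraMap L F ξ - f η' + (c ^ p - c)) + f η' := by ring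
    rcases hc with hc | ⟨N, b, hN, hpN, hbn, hc⟩
    · exact Or.inl fun U hU => by rw [e]; exact (Valuation.map_add _ _ _).trans (max_le (hc U hU) (hηU U hU))
    · refine Or.inr ⟨N, b, hN, hpN, hbn, fun U hU => ?_⟩
      rw [e, add_mul, add_sub_right_comm]
      refine (Valuation.map_add _ _ _).trans_lt (max_lt (hc U hU) ?_)
      rw [map_mul, map_pow]
      exact (mul_le_of_le_one_left' (hηU U hU)).trans_lt (pow_lt_one₀ zero_le (htU U hU) hN.ne')
  -- one more Artin-Schreier extension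
  obtain ⟨g, hgirr, hgdvd⟩ := WfDvdMonoid.exists_irreducible_factor
    (a := (X ^ p - X - C η' : K₁[X])) (fun h => hp.ne_zero ((as_natDegree hp).symm.trans (natDegree_eq_zero_of_isUnit h)))
    (as_monic hp).ne_zero
  haveI := Fact.mk hgirr
  let K' := AdjoinRoot g
  let y : K' := AdjoinRoot.root g
  have hy' : y ^ p - y = algebraMap K₁ K' η' := by
    have h0 : aeval y (X ^ p - X - C η' : K₁[X]) = 0 := by
      obtain ⟨k, hk⟩ := hgdvd
      rw [hk, map_mul, AdjoinRoot.aeval_eq, AdjoinRoot.mk_self, zero_mul]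
    simpa [sub_eq_zero] using h0
  have htop : IntermediateField.adjoin K₁ ({y} : Set K') = ⊤ :=
    IntermediateField.adjoin_eq_top_of_algebra K₁ _ AdjoinRoot.adjoinRoot_eq_top
  haveI : FiniteDimensional K₁ K' := as_finite hp hy' htop
  haveI : IsGalois K₁ K' := as_isGalois hp hy' htop
  haveI : IsScalarTower V K₁ K' := inferInstance
  have hPV : (X ^ p - X : V[X]).Monic := monic_X_pow_sub (degree_X.trans_lt (by exact_mod_cast hp.one_lt))
  have hPd : (X ^ p - X : V[X]).natDegree = p := natDegree_eq_of_degree_eq_some (by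
    rw [degree_sub_eq_left_of_degree_lt] <;> rw [degree_X_pow]
    rw [degree_X]; exact_mod_cast hp.one_lt)
  let π₁V : V := ⟨π₁, hπ₁V⟩
  have hmV : maximalIdeal V = Ideal.span {π₁V} := by
    refine le_antisymm (fun x hx => ?_) ((Ideal.span_singleton_le_iff_mem _).2 ((V.valuation_lt_one_iff π₁V).2 hπ₁lt))
    obtain ⟨y, hy, hxy⟩ := hgen _ ((V.valuation_lt_one_iff x).1 hx)
    exact Ideal.mem_span_singleton'.2 ⟨⟨y, hy⟩, Subtype.ext ((mul_comm _ _).trans hxy.symm)⟩
  let aV : V := ⟨η' * π₁ ^ n', (V.valuation_le_one_iff _).1 hunit.le⟩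
  have haV : IsUnit aV := by
    by_contra hc
    exact (((V.valuation_lt_one_iff aV).1 ((mem_maximalIdeal _).2 hc)).ne hunit)
  have hz : aeval y (X ^ p - X : V[X]) * algebraMap V K' π₁V ^ n' = algebraMap V K' aV := by
    simp only [map_sub, map_pow, aeval_X, hy']
    rw [IsScalarTower.algebraMap_apply V K₁ K', IsScalarTower.algebraMap_apply V K₁ K', ← map_pow, ← map_mul]
    rfl
  have hdegK' : Module.finrank K₁ K' = p :=
    (isTotallyRamified_of_pole hPV hp hPd hmV (as_finrank_le hp hy' htop) hn' hpn' haV hz).2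
  obtain ⟨i, j, hij⟩ : ∃ i j : ℕ, n' * i + 1 = p * j := by
    refine ⟨(-(n' : ZMod p)⁻¹).val, ?_⟩
    have h0 : ((n' * (-(n' : ZMod p)⁻¹).val + 1 : ℕ) : ZMod p) = 0 := by
      have hn0 : (n' : ZMod p) ≠ 0 := fun h => hpn' ((ZMod.natCast_eq_zero_iff _ _).1 h)
      push_cast
      rw [ZMod.natCast_val, ZMod.cast_id', id, mul_neg, mul_inv_cancel₀ hn0, neg_add_cancel]
    obtain ⟨j, hj⟩ := (ZMod.natCast_eq_zero_iff _ _).1 h0
    exact ⟨j, hj⟩
  let t : K' := y ^ i * algebraMap K₁ K' π₁ ^ j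
  haveI : IsScalarTower K K₁ K' := inferInstance
  haveI : IsScalarTower A K₁ K' := inferInstance
  haveI : IsScalarTower A K K' := IsScalarTower.of_algebraMap_eq fun a => by
    rw [IsScalarTower.algebraMap_apply A K₁ K', IsScalarTower.algebraMap_apply K K₁ K']
    rfl
  have hVW : ∀ W : ValuationSubring K', EtRam.Dominates A (algebraMap A K') W →
      EtRam.Dominates V (algebraMap V K') W ∧ W.comap (algebraMap K₁ K') = V := by
    intro W hW
    have hu : W.comap (algebraMap K₁ K') = V := htr.2.1 _ _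
      ⟨fun x => hW.1 x, fun x hx => (EtRam46.comap_lt_one_iff (W := W) (f := algebraMap K₁ K') _).2 (hW.2 x hx)⟩ hV
    refine ⟨⟨fun x => (SetLike.ext_iff.1 hu (x : K₁)).2 x.2, fun x hx => ?_⟩, hu⟩
    have h3 := (V.valuation_lt_one_iff x).1 hx
    show W.valuation (algebraMap K₁ K' (x : K₁)) < 1
    generalize (x : K₁) = x₀ at h3 ⊢
    rw [← hu, EtRam46.comap_lt_one_iff] at h3
    exact h3
  have htV : ∀ W : ValuationSubring K', EtRam.Dominates A (algebraMap A K') W →
      W.valuation t ^ p = W.valuation (algebraMap K₁ K' π₁) := by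
    intro W hW
    have h := (valuation_of_pole hPV hp.pos hPd hmV haV hn' hz (hVW W hW).1).2
    show W.valuation (y ^ i * algebraMap K₁ K' π₁ ^ j) ^ p = _
    rw [map_mul, map_pow, map_pow, mul_pow, ← pow_mul, ← pow_mul, mul_comm j p, ← hij, pow_succ,
      ← mul_assoc, mul_comm i p, pow_mul, pow_mul, ← mul_pow]
    rw [show W.valuation y ^ p * W.valuation (algebraMap K₁ K' π₁) ^ n' = 1 from h, one_pow, one_mul]
  have hlevt : ∀ W : ValuationSubring K', EtRam.Dominates A (algebraMap A K') W →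
      W.valuation t ^ (p * q) = W.valuation (algebraMap A K' π) := by
    intro W hW
    have h1 := hlev' V hV
    rw [← (hVW W hW).2, ← map_pow, EtRam46.comap_eq_iff, map_pow, map_pow] at h1
    rw [pow_mul, htV W hW, h1]
    rfl
  have hfinK' : Module.finrank K K' = p * q := by
    rw [← Module.finrank_mul_finrank K K₁ K', hK₁, hdegK', mul_comm]
  haveI : FiniteDimensional K K' := Module.Finite.trans K₁ K'
  have htr' := isTotallyRamified_of_root (K := K) hb.hπ (Nat.mul_pos hp.pos hq) hlevt hfinK'.le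
  refine ⟨p * q, K', inferInstance, inferInstance, t, Nat.mul_pos hp.pos hq, hfinK',
    Algebra.IsSeparable.trans K K₁ K', fun W hW => hlevt W hW, fun F _ _ _ _ f hf => ?_⟩
  haveI : CharP F p := charP_of_injective_algebraMap (algebraMap L F).injective p
  obtain ⟨W, hW⟩ := htr'.1
  -- the residue of `t ^ p / π₁`
  have hπ'0 : algebraMap K₁ K' π₁ ≠ 0 := (_root_.map_ne_zero _).2 hπ₁0
  have he : W.valuation (t ^ p / algebraMap K₁ K' π₁) = 1 := by
    rw [map_div₀, map_pow, htV W hW, div_self ((Valuation.ne_zero_iff _).2 hπ'0)]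
  obtain ⟨ε, hε⟩ := htr'.2.2 W hW (residue W ⟨_, (W.valuation_le_one_iff _).1 he.le⟩)
  have hε' : W.valuation (t ^ p / algebraMap K₁ K' π₁ - algebraMap A K' ε) < 1 :=
    (W.valuation_lt_one_iff _).1 (Ideal.Quotient.eq.1 hε.symm)
  have hεu : IsUnit ε := by
    by_contra hc
    have h1 := hW.2 ε ((mem_maximalIdeal _).2 hc)
    have h2 := (Valuation.map_add W.valuation _ _).trans_lt (max_lt hε' h1)
    rw [sub_add_cancel, he] at h2
    exact lt_irrefl _ h2
  obtain ⟨εu, rfl⟩ := hεu
  obtain ⟨c, hc⟩ := hout' F (f.comp (algebraMap K₁ K')) hf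
  simp only [RingHom.comp_apply] at hc
  have hηy : f (algebraMap K₁ K' η') = f y ^ p - f y := by rw [← hy', map_sub, map_pow]
  refine ⟨c - f y, ?_⟩
  have e : algebraMap L F ξ + ((c - f y) ^ p - (c - f y)) =
      algebraMap L F ξ - f (algebraMap K₁ K' η') + (c ^ p - c) := by
    rw [sub_pow_char, hηy]; ring
  rw [e]
  rcases hc with hc | ⟨N, b, hN, hpN, hbn, hc⟩
  · exact Or.inl hc
  set εB : Bˣ := εu.map (algebraMap A B).toMonoidHom with hεB
  refine Or.inr ⟨p * N, b * (εB : B) ^ N, Nat.mul_pos hp.pos hN, dvd_mul_right _ _, fun r hr => ?_, fun U hU => ?_⟩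
  · obtain ⟨l, rfl⟩ := hpN
    refine hbn (r * (↑εB⁻¹ : B) ^ l) ?_
    have h2 : b - (r * (↑εB⁻¹ : B) ^ l) ^ p = (b * (εB : B) ^ (p * l) - r ^ p) * (↑εB⁻¹ : B) ^ (p * l) := by
      rw [sub_mul, mul_assoc, ← mul_pow, Units.mul_inv, one_pow, mul_one, mul_pow, ← pow_mul, mul_comm l p]
    rw [h2]
    exact Dvd.dvd.mul_right hr _
  · have hAF : ∀ a : A, f (algebraMap A K' a) = algebraMap B F (algebraMap A B a) := fun a => by
      rw [IsScalarTower.algebraMap_apply A K K', ← RingHom.comp_apply f, hf, RingHom.comp_apply,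
        ← IsScalarTower.algebraMap_apply A K L, IsScalarTower.algebraMap_apply A B L,
        ← IsScalarTower.algebraMap_apply B L F]
    have hu : U.comap f = W := htr'.2.1 _ _ ⟨fun a => show f _ ∈ U by rw [hAF]; exact hU.1 _,
      fun a ha => (EtRam46.comap_lt_one_iff (W := U) (f := f) _).2 (by
        rw [hAF]
        exact hU.2 _ ((mem_maximalIdeal _).2 fun hu => (mem_maximalIdeal _).1 ha (IsLocalHom.map_nonunit a hu)))⟩ hW
    have h5 := hε'
    rw [← hu, EtRam46.comap_lt_one_iff, map_sub, map_div₀, map_pow, hAF] at h5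
    set T := f (algebraMap K₁ K' π₁) with hT
    set e' := f t ^ p / T with he'
    have hεmem : algebraMap B F (εB : B) ∈ U := hU.1 _
    have he'mem : e' ∈ U := by
      have h6 := U.toSubring.add_mem (EtRam46.mem_of_lt h5) hεmem
      rwa [show algebraMap B F (εB : B) = algebraMap B F (algebraMap A B (εu : A)) from rfl, sub_add_cancel] at h6
    have hT0 : T ≠ 0 := (_root_.map_ne_zero f).2 hπ'0
    have hpow : f t ^ (p * N) = T ^ N * e' ^ N := by
      rw [← mul_pow, he', mul_div_cancel₀ _ hT0, ← pow_mul]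
    rw [hpow, map_mul, map_pow, ← mul_assoc,
      show ∀ (Y E β G : F), Y * E - β * G = (Y - β) * E + β * (E - G) from fun Y E β G => by ring]
    refine (Valuation.map_add _ _ _).trans_lt (max_lt ?_ ?_)
    · rw [map_mul]
      exact (mul_le_of_le_one_right' ((U.valuation_le_one_iff _).2 (pow_mem he'mem N))).trans_lt (hc U hU)
    · rw [map_mul]
      exact (mul_le_of_le_one_left' ((U.valuation_le_one_iff _).2 (hU.1 b))).trans_lt
        (pow_sub_pow_lt he'mem hεmem h5 N)

end Groth.Agent.EtRam93
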